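import Groth.Agent.KosZig.Basic

/-!
# Functoriality of the zigzag value
-/

universe u

noncomputable section

namespace Groth.Agent.KosZig

open AlternatingMap

variable {A : Type u} [CommRing A]
  {Y : ℕ → Type u} {I : ℕ → Type u} [∀ d, AddCommGroup (Y d)] [∀ d, Module A (Y d)]
  [∀ d, AddCommGroup (I d)] [∀ d, Module A (I d)]
  {emb : ∀ d, Y d →ₗ[A] I d} {pr : ∀ d, I d →ₗ[A] Y (d + 1)}

section Map

variable {Y' : ℕ → Type u} {I' : ℕ → Type u} [∀ d, AddCommGroup (Y' d)] [∀ d, Module A (Y' d)]
  [∀ d, AddCommGroup (I' d)] [∀ d, Module A (I' d)]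
  {emb' : ∀ d, Y' d →ₗ[A] I' d} {pr' : ∀ d, I' d →ₗ[A] Y' (d + 1)}
  (fY : ∀ d, Y d →ₗ[A] Y' d) (fI : ∀ d, I d →ₗ[A] I' d)
  (he : ∀ d y, fI d (emb d y) = emb' d (fY d y)) (hp : ∀ d w, fY (d + 1) (pr d w) = pr' d (fI d w))

include he hp

theorem Reach.map {n d k K : ℕ} {g : Fin n → A} {c : Alt A n k (Y d)} {C : Alt A n K (Y 0)}
    (h : Reach emb pr g d k c K C) :
    Reach emb' pr' g d k ((fY d).compAlternatingMap c) K ((fY 0).compAlternatingMap C) := by
  induction h with
  | base => exact .base _ _
  | step d k c cl hcl c' h K C _ ih =>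
    refine .step d k _ ((fI d).compAlternatingMap cl) ?_ _ ?_ K _ ih
    · rw [← hcl]; exact AlternatingMap.ext fun v => (hp d (cl v)).symm
    · rw [← wedge_map, ← h]; exact AlternatingMap.ext fun v => (he d (c' v)).symm

theorem Val.map {n : ℕ} {g : Fin n → A} {z : Y n} {m : Y 0} (h : Val emb pr g z m) :
    Val emb' pr' g (fY n z) (fY 0 m) := by
  obtain ⟨C, hC, rfl⟩ := h
  refine ⟨(fY 0).compAlternatingMap C, ?_, rfl⟩
  convert hC.map fY fI he hp using 1
  exact AlternatingMap.ext fun v => rfl

end Map

theorem Reach.pullback {n p d k K : ℕ} {g : Fin n → A} {g' : Fin p → A} (L : (Fin p → A) →ₗ[A] Fin n → A)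
    (hL : form g' = (form g).comp L) {c : Alt A n k (Y d)} {C : Alt A n K (Y 0)}
    (h : Reach emb pr g d k c K C) :
    Reach emb pr g' d k (c.compLinearMap L) K (C.compLinearMap L) := by
  induction h with
  | base => exact .base _ _
  | step d k c cl hcl c' h K C _ ih =>
    refine .step d k _ (cl.compLinearMap L) ?_ _ ?_ K _ ih
    · rw [← hcl]; rfl
    · rw [hL, ← wedge_comp, ← h]; rfl

/-- Values along a change of tuple: the same alternating map gives all of them. -/
theorem exists_val_all {n : ℕ} {g : Fin n → A} {z : Y n} {m : Y 0} (h : Val emb pr g z m) :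
    ∃ C : Alt A n n (Y 0), C (std A n) = m ∧
      ∀ (M : Fin n → Fin n → A), Val emb pr (fun i => form g (M i)) z (C M) := by
  obtain ⟨C, hC, rfl⟩ := h
  refine ⟨C, rfl, fun M => ⟨C.compLinearMap (Fintype.linearCombination A M), ?_, ?_⟩⟩
  · convert hC.pullback (g' := fun i => form g (M i)) (Fintype.linearCombination A M) ?_ using 1
    · exact AlternatingMap.ext fun v => rfl
    · refine LinearMap.ext fun v => ?_
      simp [Fintype.linearCombination_apply, map_sum]
  · rw [AlternatingMap.compLinearMap_apply]
    refine congrArg C (funext fun i => ?_)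
    simp [std, Fintype.linearCombination_apply_single]

section Restrict

variable {A' : Type u} [CommRing A'] [Algebra A A'] [∀ d, Module A' (Y d)] [∀ d, IsScalarTower A A' (Y d)]
  [∀ d, Module A' (I d)] [∀ d, IsScalarTower A A' (I d)]

/-- Restriction of the coefficients of an alternating map. -/
def resAlt {n k : ℕ} {N : Type u} [AddCommGroup N] [Module A N] [Module A' N] [IsScalarTower A A' N]
    (c : Alt A' n k N) : Alt A n k N where
  toFun v := c fun i j => algebraMap A A' (v i j)
  map_update_add' {_} v i x y := by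
    have e : ∀ z : Fin n → A, (fun p j => algebraMap A A' (Function.update v i z p j)) =
        Function.update (fun p j => algebraMap A A' (v p j)) i fun j => algebraMap A A' (z j) := fun z =>
      funext fun p => by rcases eq_or_ne p i with rfl | hp <;> simp [*]
    simp only [e]
    rw [show (fun j => algebraMap A A' ((x + y) j)) =
      (fun j => algebraMap A A' (x j)) + fun j => algebraMap A A' (y j) from funext fun j => map_add _ _ _]
    exact c.map_update_add _ i _ _
  map_update_smul' {_} v i a x := by
    have e : ∀ z : Fin n → A, (fun p j => algebraMap A A' (Function.update v i z p j)) =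
        Function.update (fun p j => algebraMap A A' (v p j)) i fun j => algebraMap A A' (z j) := fun z =>
      funext fun p => by rcases eq_or_ne p i with rfl | hp <;> simp [*]
    simp only [e]
    rw [show (fun j => algebraMap A A' ((a • x) j)) =
      algebraMap A A' a • (fun j => algebraMap A A' (x j)) from funext fun j => map_mul _ _ _]
    exact (c.map_update_smul _ i _ _).trans (algebraMap_smul A' a _)
  map_eq_zero_of_eq' v i j h hij := c.map_eq_zero_of_eq _ (funext fun p => by rw [h]) hij

theorem wedge_resAlt {n k : ℕ} {N : Type u} [AddCommGroup N] [Module A N] [Module A' N]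
    [IsScalarTower A A' N] (g : Fin n → A) (c : Alt A' n k N) :
    resAlt (A := A) (wedge (form fun i => algebraMap A A' (g i)) c) = wedge (form g) (resAlt c) := by
  ext v
  show wedge (form fun i => algebraMap A A' (g i)) c (fun i j => algebraMap A A' (v i j)) = _
  rw [wedge_apply, wedge_apply]
  refine Finset.sum_congr rfl fun i _ => congrArg (_ • ·) ?_
  rw [← algebraMap_smul A' (form g (v i))]
  simp only [Fintype.linearCombination_apply, smul_eq_mul, map_sum, map_mul]
  rfl

omit [∀ d, IsScalarTower A A' (Y d)] [∀ d, IsScalarTower A A' (I d)] in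
theorem mem_gTop_map {n : ℕ} {g : Fin n → A} {N : Type u} [AddCommGroup N] [Module A N] [Module A' N]
    [IsScalarTower A A' N] {x : N} (hx : x ∈ gTop g N) : x ∈ gTop (fun i => algebraMap A A' (g i)) N := by
  refine Submodule.smul_induction_on hx (fun r hr y _ => ?_) fun _ _ => add_mem
  rw [← algebraMap_smul A' r y]
  refine Submodule.smul_mem_smul ?_ Submodule.mem_top
  have h := Ideal.mem_map_of_mem (algebraMap A A') hr
  rwa [Ideal.map_span, ← Set.range_comp] at h

variable {emb' : ∀ d, Y d →ₗ[A'] I d} {pr' : ∀ d, I d →ₗ[A'] Y (d + 1)}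
  (he : ∀ d y, emb' d y = emb d y) (hp : ∀ d w, pr' d w = pr d w)

include he hp

theorem Reach.restrict {n d k K : ℕ} {g : Fin n → A} {c : Alt A' n k (Y d)} {C : Alt A' n K (Y 0)}
    (h : Reach emb' pr' (fun i => algebraMap A A' (g i)) d k c K C) :
    Reach emb pr g d k (resAlt c) K (resAlt C) := by
  induction h with
  | base => exact .base _ _
  | step d k c cl hcl c' h K C _ ih =>
    refine .step d k _ (resAlt cl) ?_ _ ?_ K _ ih
    · rw [← hcl]; exact AlternatingMap.ext fun v => (hp d _).symm
    · rw [← wedge_resAlt, ← h]; exact AlternatingMap.ext fun v => (he d _).symm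

theorem Val.restrict {n : ℕ} {g : Fin n → A} {z : Y n} {m : Y 0}
    (h : Val emb' pr' (fun i => algebraMap A A' (g i)) z m) : Val emb pr g z m := by
  obtain ⟨C, hC, rfl⟩ := h
  refine ⟨resAlt C, ?_, ?_⟩
  · convert hC.restrict he hp using 1
    exact AlternatingMap.ext fun v => rfl
  · show C _ = C _
    refine congrArg C (funext fun i => funext fun j => ?_)
    simp [std, Pi.single_apply]

end Restrict

end Groth.Agent.KosZig
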