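import Groth.Agent.KosZig.Prefix
import Groth.Agent.KosZig.Natural
import Groth.Agent.ExtPowSt.Det
import Mathlib.RingTheory.Regular.RegularSequence

/-!
# Regular tuples: conormal basis and the top wedge
-/

universe u

noncomputable section

namespace Groth.Agent.KosZig

variable {A : Type u} [CommRing A]

theorem reg_of_isWeaklyRegular : ∀ {n : ℕ} (g : Fin n → A),
    RingTheory.Sequence.IsWeaklyRegular A (List.ofFn g) → Reg g := by
  intro n
  induction n with
  | zero => intro g _; trivial
  | succ n ih =>
    intro g h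
    rw [List.ofFn_succ', List.concat_eq_append, RingTheory.Sequence.isWeaklyRegular_append_iff] at h
    refine ⟨ih _ h.1, fun a ha => ?_⟩
    have h2 := (RingTheory.Sequence.isWeaklyRegular_cons_iff _ _ _).1 h.2
    have e : ∀ x : A, (Submodule.Quotient.mk x : A ⧸ (Ideal.ofList (List.ofFn fun i : Fin n => g i.castSucc) • ⊤ :
        Submodule A A)) = 0 ↔ x ∈ Ideal.span (Set.range fun i : Fin n => g i.castSucc) := fun x => by
      rw [Submodule.Quotient.mk_eq_zero, Ideal.ofList, Ideal.smul_eq_mul, Ideal.mul_top]
      simp only [List.mem_ofFn]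
      rfl
    refine (e a).1 (h2.1 ?_)
    show g (Fin.last n) • _ = g (Fin.last n) • (0 : _)
    rw [smul_zero, ← Submodule.Quotient.mk_smul, e]
    exact ha

/-- The coefficients of a relation between the members lie in the ideal they generate. -/
theorem mem_span_of_relation : ∀ {n : ℕ} (g : Fin n → A), Reg g → ∀ c : Fin n → A,
    ∑ i, c i * g i = 0 → ∀ i, c i ∈ Ideal.span (Set.range g) := by
  intro n
  induction n with
  | zero => intro g _ c _ i; exact i.elim0
  | succ n ih =>
    intro g hg c hc
    rw [Fin.sum_univ_castSucc] at hc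
    have hlast : c (Fin.last n) ∈ Ideal.span (Set.range fun i : Fin n => g i.castSucc) := by
      refine hg.2 _ ?_
      rw [mul_comm, eq_neg_of_add_eq_zero_right hc]
      exact neg_mem (Ideal.sum_mem _ fun i _ => Ideal.mul_mem_left _ _ (Ideal.subset_span ⟨i, rfl⟩))
    have hsub : Ideal.span (Set.range fun i : Fin n => g i.castSucc) ≤ Ideal.span (Set.range g) :=
      Ideal.span_mono (Set.range_subset_iff.2 fun i => ⟨i.castSucc, rfl⟩)
    obtain ⟨d, hd⟩ := Ideal.mem_span_range_iff_exists_fun.1 hlast
    have hc' : ∑ i : Fin n, (c i.castSucc + d i * g (Fin.last n)) * g i.castSucc = 0 := by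
      rw [← hc, ← hd]
      simp only [add_mul, Finset.sum_add_distrib, Finset.sum_mul]
      exact congrArg (_ + ·) (Finset.sum_congr rfl fun i _ => mul_right_comm _ _ _)
    refine Fin.lastCases (hsub hlast) fun i => ?_
    have h := hsub (ih _ hg.1 _ hc' i)
    rw [show c i.castSucc = (c i.castSucc + d i * g (Fin.last n)) - d i * g (Fin.last n) by ring]
    exact sub_mem h (Ideal.mul_mem_left _ _ (Ideal.subset_span ⟨_, rfl⟩))

section Basis

variable {B : Type u} [CommRing B] {n : ℕ} {g : Fin n → A} {J : Ideal A} (f : A →+* B)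
  {C : Type u} [AddCommGroup C] [Module B C] (κ : J →+ C)

/-- A universal semilinear map out of an ideal generated by a regular tuple gives a basis. -/
theorem exists_basis (hg : Reg g) (hJ : Ideal.span (Set.range g) = J) (hf : ∀ a ∈ J, f a = 0)
    (hκ : ∀ (b : A) (a : J), κ (b • a) = f b • κ a)
    (huniv : ∀ (N : Type u) [AddCommGroup N] [Module B N] (k : J →+ N),
      (∀ (b : A) (a : J), k (b • a) = f b • k a) → ∃! l : C →ₗ[B] N, ∀ a, l (κ a) = k a) :
    ∃ b : Module.Basis (Fin n) B C, ∀ i (h : g i ∈ J), b i = κ ⟨g i, h⟩ := by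
  have hmem : ∀ i, g i ∈ J := fun i => hJ ▸ Ideal.subset_span ⟨i, rfl⟩
  have hexp : ∀ a : J, ∃ c : Fin n → A, ∑ i, c i * g i = a.1 := fun a =>
    Ideal.mem_span_range_iff_exists_fun.1 (hJ.symm ▸ a.2)
  choose c hc using hexp
  have key : ∀ c' : Fin n → A, ∑ i, c' i * g i = 0 → ∀ i, f (c' i) = 0 := fun c' h i =>
    hf _ (hJ ▸ mem_span_of_relation g hg c' h i)
  have hval : ∀ (a : J) (c' : Fin n → A), ∑ i, c' i * g i = a.1 → ∀ i, f (c a i) = f (c' i) := by
    intro a c' h i
    have := key (fun i => c a i - c' i) (by simp only [sub_mul, Finset.sum_sub_distrib, hc, h, sub_self]) i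
    rwa [map_sub, sub_eq_zero] at this
  let k : J →+ (Fin n → B) := AddMonoidHom.mk' (fun a i => f (c a i)) fun a a' => funext fun i => by
    rw [hval (a + a') (fun i => c a i + c a' i) (by
      simp only [add_mul, Finset.sum_add_distrib, hc]; rfl) i, map_add]
    rfl
  have hk : ∀ (b : A) (a : J), k (b • a) = f b • k a := fun b a => funext fun i => by
    show f (c (b • a) i) = f b * f (c a i)
    rw [hval (b • a) (fun i => b * c a i) (by simp only [mul_assoc, ← Finset.mul_sum, hc]; rfl) i, map_mul]
  obtain ⟨l, hl, -⟩ := huniv _ k hk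
  let v : Fin n → C := fun i => κ ⟨g i, hmem i⟩
  have hlv : ∀ i, l (v i) = Pi.single i 1 := fun i => by
    rw [hl]
    funext j
    show f (c _ j) = _
    rw [hval ⟨g i, hmem i⟩ (Pi.single i 1) (by simp [Pi.single_apply]) j, Pi.single_apply, Pi.single_apply]
    split_ifs <;> simp
  have hinv : (Fintype.linearCombination B v) ∘ₗ l = LinearMap.id := by
    obtain ⟨m, -, hm⟩ := huniv C κ hκ
    refine (hm _ fun a => ?_).trans (hm LinearMap.id fun a => rfl).symm
    rw [LinearMap.comp_apply, hl, Fintype.linearCombination_apply]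
    refine Eq.trans ?_ (congrArg κ (Subtype.ext (by
      rw [AddSubmonoidClass.coe_finsetSum]; exact hc a : ((∑ i, c a i • (⟨g i, hmem i⟩ : J) : J) : A) = a.1)))
    rw [map_sum]
    exact Finset.sum_congr rfl fun i _ => (hκ _ _).symm
  have hinv' : l ∘ₗ (Fintype.linearCombination B v) = LinearMap.id := by
    refine (Pi.basisFun B (Fin n)).ext fun i => ?_
    simp [hlv]
  let e : C ≃ₗ[B] (Fin n → B) := LinearEquiv.ofLinear l (Fintype.linearCombination B v) hinv' hinv
  refine ⟨Module.Basis.ofEquivFun e, fun i h => ?_⟩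
  rw [Module.Basis.coe_ofEquivFun]
  show Fintype.linearCombination B v (Function.update 0 i 1) = _
  rw [show Function.update (0 : Fin n → B) i 1 = Pi.single i 1 from rfl,
    Fintype.linearCombination_apply_single, one_smul]

end Basis

/-- The wedge of a basis freely generates the top exterior power. -/
theorem bijective_top {B C : Type u} [CommRing B] [AddCommGroup C] [Module B C] {n : ℕ}
    (b : Module.Basis (Fin n) B C) :
    Function.Bijective (LinearMap.toSpanSingleton B (⋀[B]^n C) (exteriorPower.ιMulti B n b)) := by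
  refine ⟨(injective_iff_map_eq_zero _).2 fun a ha => ?_, fun z => ?_⟩
  · have h := congrArg (exteriorPower.alternatingMapLinearEquiv b.det) ha
    rw [LinearMap.toSpanSingleton_apply, map_smul, exteriorPower.alternatingMapLinearEquiv_apply_ιMulti,
      Module.Basis.det_self, map_zero, smul_eq_mul, mul_one] at h
    exact h
  · have hz : z ∈ Submodule.span B (Set.range (exteriorPower.ιMulti B n (M := C))) := by
      rw [exteriorPower.ιMulti_span]; trivial
    refine (Submodule.span_le.2 ?_ hz : z ∈ LinearMap.range (LinearMap.toSpanSingleton B _ _))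
    rintro _ ⟨v, rfl⟩
    exact ⟨b.det v, (ExtPowSt.ιMulti_eq_det_smul b v).symm⟩

/-- Alternating maps on the standard module are the determinant times the value at the basis. -/
theorem eq_det_smul {n : ℕ} {N : Type u} [AddCommGroup N] [Module A N] (C : Alt A n n N)
    (M : Fin n → Fin n → A) : C M = (Matrix.of M).det • C (std A n) := by
  let D : Alt A n n N := (LinearMap.toSpanSingleton A N (C (std A n))).compAlternatingMap
    (Matrix.detRowAlternating : (Fin n → A) [⋀^Fin n]→ₗ[A] A)
  have h : C = D := ext_std (by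
    show C _ = Matrix.detRowAlternating (std A n) • C (std A n)
    have : (Matrix.detRowAlternating : (Fin n → A) [⋀^Fin n]→ₗ[A] A) (std A n) = 1 := by
      show Matrix.det (Matrix.of (std A n)) = 1
      rw [show Matrix.of (std A n) = 1 from Matrix.ext fun i j => by
        simp [std, Matrix.one_apply, Pi.single_apply, eq_comm]]
      exact Matrix.det_one
    rw [this, one_smul])
  exact DFunLike.congr_fun h M

end Groth.Agent.KosZig
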