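import Groth.Agent.KosZig.Killed
import Groth.Agent.KosZig.Local
import Groth.Agent.Omega.StalkConormal
import Groth.Agent.Omega.ConormalProj
import Groth.Agent.ExtFilt.Sheaf
import Mathlib.RingTheory.Regular.Flat

/-!
# Charts of a regular immersion: conormal frame and the top wedge on stalks
-/

universe u

open CategoryTheory CategoryTheory.Limits AlgebraicGeometry TopologicalSpace Opposite
open Groth.Agent.PullStalk.Sky Groth.Agent.PullStalk.Exact

noncomputable section

namespace Groth.Agent.KosZig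

set_option maxHeartbeats 800000
set_option synthInstance.maxHeartbeats 400000

variable {P X : Scheme.{u}} (ι : X ⟶ P) [IsClosedImmersion ι] {r : ℕ}

theorem exists_chart (hι : RegImm.IsRegularImmersionOfCodim RegImm.Kind.regular r ι) (y : X) :
    ∃ c : Chart ι r, ι y ∈ c.W.1 := by
  obtain ⟨U, hy, -, rs, hlen, hseq, hker⟩ := hι.2 y
  subst hlen
  refine ⟨⟨U, fun i => rs[i.1], ?_, ?_⟩, hy⟩
  · rw [hker, Ideal.ofList]
    congr 1
    ext a
    simp [List.mem_iff_get]
  · rw [List.ofFn_getElem]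
    exact hseq.toIsWeaklyRegular

theorem Chart.exists_le (c : Chart ι r) {O : P.Opens} {x : P} (hx : x ∈ c.W.1) (hxO : x ∈ O) :
    ∃ c' : Chart ι r, x ∈ c'.W.1 ∧ c'.W.1 ≤ O ∧ c'.W.1 ≤ c.W.1 := by
  obtain ⟨a, haO, hxa⟩ := c.W.2.exists_basicOpen_le ⟨x, hxO⟩ hx
  let W' : P.affineOpens := ⟨P.basicOpen a, c.W.2.basicOpen a⟩
  have hle : W'.1 ≤ c.W.1 := P.basicOpen_le a
  refine ⟨⟨W', fun i => P.presheaf.map (homOfLE hle).op (c.f i), ?_, ?_⟩, hxa, haO, hle⟩
  · rw [← Scheme.Hom.ker_apply ι W', ← ι.ker.map_ideal (U := W') (V := c.W) hle, Scheme.Hom.ker_apply,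
      c.ker_app, Ideal.map_span, ← Set.range_comp]
    rfl
  · letI := (P.presheaf.map (homOfLE hle).op).hom.toAlgebra
    haveI : IsLocalization.Away a Γ(P, P.basicOpen a) := c.W.2.isLocalization_basicOpen a
    have h := c.reg.of_isLocalization Γ(P, P.basicOpen a) (Submonoid.powers a)
    rw [List.map_ofFn] at h
    exact h

/-- The germs of the equations. -/
def Chart.g (c : Chart ι r) {y : X} (hy : ι y ∈ c.W.1) : Fin r → P.presheaf.stalk (ι y) :=
  fun i => P.presheaf.germ c.W.1 (ι y) hy (c.f i)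

theorem Chart.span_g (c : Chart ι r) {y : X} (hy : ι y ∈ c.W.1) :
    Ideal.span (Set.range (c.g ι hy)) = RingHom.ker (ι.stalkMap y).hom :=
  (c.ker_stalk ι y hy).symm

theorem Chart.g_mem (c : Chart ι r) {y : X} (hy : ι y ∈ c.W.1) (i : Fin r) :
    c.g ι hy i ∈ RingHom.ker (ι.stalkMap y).hom :=
  c.span_g ι hy ▸ Ideal.subset_span ⟨i, rfl⟩

theorem Chart.reg_g (c : Chart ι r) {y : X} (hy : ι y ∈ c.W.1) : Reg (c.g ι hy) := by
  letI := P.presheaf.algebra_section_stalk ⟨ι y, hy⟩
  haveI := c.W.2.isLocalization_stalk ⟨ι y, hy⟩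
  have h := c.reg.of_isLocalization (P.presheaf.stalk (ι y))
    (c.W.2.primeIdealOf ⟨ι y, hy⟩).asIdeal.primeCompl
  rw [List.map_ofFn] at h
  exact reg_of_isWeaklyRegular _ h

theorem isInducing : Topology.IsInducing ι := ι.isClosedEmbedding.isInducing

/-- The universal map from the ideal to the conormal stalk. -/
def kap (y : X) : RingHom.ker (ι.stalkMap y).hom →+ (Omega.conormal ι).presheaf.stalk y :=
  (Omega.StalkConormal.exists_conormal ι y ι.isClosedEmbedding.isInducing).choose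

theorem kap_smul (y : X) (b : P.presheaf.stalk (ι y)) (a : RingHom.ker (ι.stalkMap y).hom) :
    kap ι y (b • a) = ι.stalkMap y b • kap ι y a :=
  (Omega.StalkConormal.exists_conormal ι y ι.isClosedEmbedding.isInducing).choose_spec.1 b a

theorem kap_germ (y : X) (U : P.Opens) (hy : ι y ∈ U) (s : Γ(ClSub.idealMod ι.ker, U))
    (h : P.presheaf.germ U (ι y) hy (OmegaSh.idealSect ι.ker U s) ∈ RingHom.ker (ι.stalkMap y).hom) :
    kap ι y ⟨_, h⟩ = germM _ (ι ⁻¹ᵁ U) y hy (OmegaSh.conormalSect ι U s) :=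
  (Omega.StalkConormal.exists_conormal ι y ι.isClosedEmbedding.isInducing).choose_spec.2.1 U hy s h

theorem Chart.exists_basis (c : Chart ι r) {y : X} (hy : ι y ∈ c.W.1) :
    ∃ b : Module.Basis (Fin r) (X.presheaf.stalk y) ((Omega.conormal ι).presheaf.stalk y),
      ∀ i, b i = kap ι y ⟨c.g ι hy i, c.g_mem ι hy i⟩ := by
  obtain ⟨b, hb⟩ := KosZig.exists_basis (ι.stalkMap y).hom (kap ι y) (c.reg_g ι hy) (c.span_g ι hy)
    (fun a ha => ha) (kap_smul ι y)
    (Omega.StalkConormal.exists_conormal ι y ι.isClosedEmbedding.isInducing).choose_spec.2.2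
  exact ⟨b, fun i => hb i _⟩

instance : (Omega.conormal ι).IsQuasicoherent :=
  haveI : (ClSub.idealMod ι.ker).IsQuasicoherent := AmpleLib.isQCoh_idealMod _
  inferInstanceAs ((Scheme.Modules.pullback ι).obj (ClSub.idealMod ι.ker)).IsQuasicoherent

variable {L : X.Modules} (Φ : ExtPowSt.Sys r (Omega.conormal ι) L)

/-- The wedge of the classes of a tuple in the ideal. -/
def omega (y : X) (g : Fin r → RingHom.ker (ι.stalkMap y).hom) : L.presheaf.stalk y :=
  (ExtPowSt.stalkEquiv Φ y).symm (exteriorPower.ιMulti _ r fun i => kap ι y (g i))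

/-- The wedge of the equations of a chart. -/
def Chart.omega (c : Chart ι r) {y : X} (hy : ι y ∈ c.W.1) : L.presheaf.stalk y :=
  KosZig.omega ι Φ y fun i => ⟨c.g ι hy i, c.g_mem ι hy i⟩

theorem Chart.bijective_omega (c : Chart ι r) {y : X} (hy : ι y ∈ c.W.1) :
    Function.Bijective (LinearMap.toSpanSingleton (X.presheaf.stalk y) (L.presheaf.stalk y)
      (c.omega ι Φ hy)) := by
  obtain ⟨b, hb⟩ := c.exists_basis ι hy
  have h := ((ExtPowSt.stalkEquiv Φ y).symm.bijective.comp (bijective_top b))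
  have e : (fun i => kap ι y ⟨c.g ι hy i, c.g_mem ι hy i⟩) = b := funext fun i => (hb i).symm
  show Function.Bijective fun a : X.presheaf.stalk y => a • c.omega ι Φ hy
  rw [Chart.omega, KosZig.omega, e]
  convert h using 1
  funext a
  exact ((ExtPowSt.stalkEquiv Φ y).symm.map_smul a _).symm

/-- Wedges in terms of those of a chart. -/
theorem Chart.omega_eq (c : Chart ι r) {y : X} (hy : ι y ∈ c.W.1)
    (g : Fin r → RingHom.ker (ι.stalkMap y).hom) (M : Fin r → Fin r → P.presheaf.stalk (ι y))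
    (hM : ∀ i, form (c.g ι hy) (M i) = (g i).1) :
    KosZig.omega ι Φ y g = ι.stalkMap y (Matrix.of M).det • c.omega ι Φ hy := by
  obtain ⟨b, hb⟩ := c.exists_basis ι hy
  have e : (fun i => kap ι y ⟨c.g ι hy i, c.g_mem ι hy i⟩) = b := funext fun i => (hb i).symm
  have hg : ∀ i, kap ι y (g i) = ∑ j, ι.stalkMap y (M i j) • b j := fun i => by
    have : g i = ∑ j, M i j • (⟨c.g ι hy j, c.g_mem ι hy j⟩ : RingHom.ker (ι.stalkMap y).hom) :=
      Subtype.ext (by
        rw [← hM i, Fintype.linearCombination_apply, AddSubmonoidClass.coe_finsetSum]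
        exact Finset.sum_congr rfl fun j _ => rfl)
    rw [this, map_sum]
    exact Finset.sum_congr rfl fun j _ => by rw [kap_smul, hb]
  rw [Chart.omega, KosZig.omega, KosZig.omega, e, ExtPowSt.ιMulti_eq_det_smul b fun i => kap ι y (g i),
    map_smul]
  congr 1
  rw [Module.Basis.det_apply, ← Matrix.det_transpose, RingHom.map_det (ι.stalkMap y).hom]
  congr 1
  ext i j
  rw [Matrix.transpose_apply, Module.Basis.toMatrix_apply, hg]
  rw [map_sum, Finsupp.finsetSum_apply]
  simp [Finsupp.single_apply]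

/-- The wedge is the germ of one section over the chart. -/
theorem Chart.exists_section (c : Chart ι r) :
    ∃ w : Γ(L, ι ⁻¹ᵁ c.W.1), ∀ (y : X) (hy : ι y ∈ c.W.1),
      germM L (ι ⁻¹ᵁ c.W.1) y hy w = c.omega ι Φ hy := by
  have hW : IsAffineOpen (ι ⁻¹ᵁ c.W.1) := c.W.2.preimage ι
  choose s hs using fun i => Omega.Stalks.exists_idealSect_eq ι c.W.1 (c.f i) (by
    have : c.f i ∈ RingHom.ker (ι.app c.W.1).hom := c.ker_app ▸ Ideal.subset_span ⟨i, rfl⟩
    exact this)
  refine ⟨ExtFilt.Sheaf.wsec Φ ⟨_, hW⟩ fun i => OmegaSh.conormalSect ι c.W.1 (s i), fun y hy => ?_⟩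
  rw [Chart.omega, KosZig.omega, LinearEquiv.eq_symm_apply]
  refine (ExtFilt.Sheaf.equiv_wedge Φ ⟨_, hW⟩ y hy _).trans ?_
  congr 1
  funext i
  have h := kap_germ ι y c.W.1 hy (s i) (by rw [hs]; exact c.g_mem ι hy i)
  refine h.symm.trans (congrArg (kap ι y) (Subtype.ext ?_))
  show P.presheaf.germ _ _ _ _ = _
  rw [hs]
  rfl

end Groth.Agent.KosZig
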