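import Groth.Agent.KosZig.Hom
import Groth.Agent.RDerLES
import Groth.Agent.InjMod.HomShBridge
import Groth.Agent.ChgRings.Derived
import Groth.Agent.DualAbs.ClosedDual

/-!
# `R^r ι^! F ≅ ℋom(∧^r C, ι^* F)` for a regular immersion
-/

universe u

open CategoryTheory CategoryTheory.Limits AlgebraicGeometry TopologicalSpace Opposite
open Groth.Agent.PullStalk.Sky Groth.Agent.PullStalk.Exact Groth.Agent.PullStalk.Basic

noncomputable section

namespace Groth.Agent.KosZig

set_option maxHeartbeats 800000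
set_option synthInstance.maxHeartbeats 400000

variable {P X : Scheme.{u}} [IsLocallyNoetherian P] [EnoughInjectives P.Modules]
  (F : {M : P.Modules // Coh.IsQCoh M}) (ι : X ⟶ P) [IsClosedImmersion ι]
  {R : P.Modules ⥤ X.Modules} (adj : Scheme.Modules.pushforward ι ⊣ R) {r : ℕ}
  {L : X.Modules} (Φ : ExtPowSt.Sys r (Omega.conormal ι) L)
  (hι : RegImm.IsRegularImmersionOfCodim RegImm.Kind.regular r ι)

include Φ hι in
theorem evalStalk_injective (G : X.Modules) (y : X) : Function.Injective (RefHull.evalStalk L G y) := by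
  refine (injective_iff_map_eq_zero _).2 fun θ hθ => ?_
  obtain ⟨V, hV, g, rfl⟩ := exists_germM_eq (RefHull.homSh L G) y θ
  rw [show RefHull.evalStalk L G y (germM _ V y hV g) = g.1 ⟨y, hV⟩ from RefHull.evalStalk_germ L G y hV g] at hθ
  obtain ⟨c, hc⟩ := exists_chart ι hι y
  obtain ⟨w, hw⟩ := c.exists_section ι Φ
  let D : X.Opens := V ⊓ ι ⁻¹ᵁ c.W.1
  have hyD : y ∈ D := ⟨hV, hc⟩
  obtain ⟨W', hyW', j, n, hn⟩ := RefHull.isLocSect_of_mem g D (homOfLE inf_le_left)
    (QCoh.res L (inf_le_right : D ≤ ι ⁻¹ᵁ c.W.1) w) ⟨y, hyD⟩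
  have hn0 : germM G W' y hyW' n = germM G W' y hyW' 0 := by
    refine (hn ⟨y, hyW'⟩).symm.trans ?_
    exact (LinearMap.congr_fun hθ _).trans (map_zero (G.presheaf.germ W' y hyW').hom).symm
  obtain ⟨O', hyO', i₁, i₂, he⟩ := G.presheaf.germ_eq y hyW' hyW' _ _ hn0
  have hO'V : O' ≤ V := i₁.le.trans (j.le.trans inf_le_left)
  rw [← HomShQC.germM_res (RefHull.homSh L G) hO'V y hyO' g]
  refine (congrArg (germM (RefHull.homSh L G) O' y hyO') ?_).trans
    (map_zero ((RefHull.homSh L G).presheaf.germ O' y hyO').hom)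
  refine Subtype.ext (funext fun z => LinearMap.ext fun l => ?_)
  have hzD : z.1 ∈ D := j.le (i₁.le z.2)
  obtain ⟨b, rfl⟩ := (c.bijective_omega ι Φ hzD.2).2 l
  show g.1 ⟨z.1, hO'V z.2⟩ (b • c.omega ι Φ hzD.2) = 0
  rw [map_smul, ← hw z.1 hzD.2, ← HomShQC.germM_res L (inf_le_right : D ≤ ι ⁻¹ᵁ c.W.1) z.1 hzD w]
  refine (congrArg (b • ·) ((hn ⟨z.1, i₁.le z.2⟩).trans ?_)).trans (smul_zero _)
  refine (HomShQC.germM_res G i₁.le z.1 z.2 n).symm.trans ?_
  refine (congrArg (germM G O' z.1 z.2) (he.trans (map_zero (G.presheaf.map i₂.op).hom))).trans ?_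
  exact map_zero (G.presheaf.germ O' z.1 z.2).hom

theorem psi_surjective (y : X) : Function.Surjective (stalkLin (psi F ι adj Φ hι) y) := by
  intro θ
  obtain ⟨c, hc⟩ := exists_chart ι hι y
  obtain ⟨m, hm⟩ := unit_surjective F ι y (RefHull.evalStalk L (GY F ι) y θ (c.omega ι Φ hc))
  obtain ⟨z, hz, hv⟩ := (surj_and_inj (isSyz_stalk F (ι y)) (injective_sI F (ι y)) _ (c.reg_g ι hc)).1 m
  obtain ⟨s, hs⟩ := exists_of_killed ι adj c (Ys F r) y hc hz
  refine ⟨s, evalStalk_injective ι Φ hι (GY F ι) y ?_⟩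
  rw [eval_psi]
  refine LinearMap.ext fun l => ?_
  obtain ⟨b, rfl⟩ := (c.bijective_omega ι Φ hc).2 l
  show homAt F ι adj Φ hι y s (b • c.omega ι Φ hc) =
    RefHull.evalStalk L (GY F ι) y θ (b • c.omega ι Φ hc)
  rw [map_smul, map_smul, ← hm]
  congr 1
  exact isHom_homAt F ι adj Φ hι y s (fun i => ⟨c.g ι hc i, c.g_mem ι hc i⟩) m (by rw [hs]; exact hv)

theorem null_of_psi (y : X) (s : (R.obj (Ys F r)).presheaf.stalk y)
    (hs : stalkLin (psi F ι adj Φ hι) y s = 0) (c : Chart ι r) (hc : ι y ∈ c.W.1) :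
    Null (sEmb F (ι y)) (sPr F (ι y)) (c.g ι hc) (tau ι adj (Ys F r) y s) := by
  obtain ⟨m, hm⟩ := exists_val_tau F ι adj y s fun i => ⟨c.g ι hc i, c.g_mem ι hc i⟩
  refine (surj_and_inj (isSyz_stalk F (ι y)) (injective_sI F (ι y)) _ (c.reg_g ι hc)).2 _ m
    (fun i => smul_tau ι adj _ y _ (c.g_mem ι hc i) s) hm ?_
  refine mem_gTop_of_unit F ι (c.span_g ι hc) ?_
  have h := isHom_homAt F ι adj Φ hι y s _ m hm
  rw [← eval_psi, hs, map_zero, LinearMap.zero_apply] at h
  exact h.symm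

theorem proj_psi {j : ℕ} {L : X.Modules} (Φ : ExtPowSt.Sys (j + 1) (Omega.conormal ι) L)
    (hι : RegImm.IsRegularImmersionOfCodim RegImm.Kind.regular (j + 1) ι) :
    R.map (prM F j) ≫ psi F ι adj Φ hι = 0 := by
  refine Omega.Stalks.hom_ext_stalk fun y => LinearMap.ext fun s => ?_
  rw [Omega.Stalks.stalkLin_comp, Omega.Stalks.stalkLin_zero]
  refine evalStalk_injective ι Φ hι (GY F ι) y ?_
  rw [eval_psi, map_zero]
  refine homAt_eq F ι adj Φ hι y fun g m hm => ?_
  have h0 : Val (sEmb F (ι y)) (sPr F (ι y)) (fun i => (g i).1)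
      (tau ι adj (Ys F (j + 1)) y (stalkLin (R.map (prM F j)) y s)) 0 := by
    rw [tau_map]
    exact val_pr_zero fun i => smul_tau ι adj _ y _ (g i).2 s
  have h := unit_gTop_eq_zero F ι (fun i => (g i).2) (hm.sub_mem (isSyz_stalk F (ι y)) h0)
  rw [sub_zero] at h
  rw [LinearMap.zero_apply, h]

theorem exact_psi {j : ℕ} {L : X.Modules} (Φ : ExtPowSt.Sys (j + 1) (Omega.conormal ι) L)
    (hι : RegImm.IsRegularImmersionOfCodim RegImm.Kind.regular (j + 1) ι) :
    (ShortComplex.mk _ _ (proj_psi F ι adj Φ hι)).Exact := by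
  refine Omega.Stalks.exact_of_stalk _ fun y s hs => ?_
  obtain ⟨c, hc⟩ := exists_chart ι hι y
  obtain ⟨w, hw, hw0⟩ := null_of_psi F ι adj Φ hι y s hs c hc
  obtain ⟨s', hs'⟩ := exists_of_killed ι adj c (Is F j) y hc hw0
  refine ⟨s', tau_injective ι adj (Ys F (j + 1)) y ?_⟩
  exact (tau_map ι adj (prM F j) y s').trans (by rw [hs']; exact hw)

theorem epi_psi : Epi (psi F ι adj Φ hι) := Omega.Stalks.epi_of_stalk (psi_surjective F ι adj Φ hι)

theorem isIso_psi_zero {L : X.Modules} (Φ : ExtPowSt.Sys 0 (Omega.conormal ι) L)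
    (hι : RegImm.IsRegularImmersionOfCodim RegImm.Kind.regular 0 ι) : IsIso (psi F ι adj Φ hι) := by
  refine Omega.Stalks.isIso_of_stalk fun y => ⟨(injective_iff_map_eq_zero _).2 fun s hs => ?_,
    psi_surjective F ι adj Φ hι y⟩
  obtain ⟨c, hc⟩ := exists_chart ι hι y
  exact tau_injective ι adj (Ys F 0) y ((null_of_psi F ι adj Φ hι y s hs c hc).trans (map_zero _).symm)

variable [HasInjectiveResolutions P.Modules] [R.Additive]

omit [IsClosedImmersion ι] in
/-- Dimension shifting along the resolution. -/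
theorem nonempty_shift : ∀ (m d : ℕ),
    Nonempty ((R.rightDerived (m + 1)).obj (Ys F d) ≅ (R.rightDerived 1).obj (Ys F (d + m))) := by
  intro m
  induction m with
  | zero => exact fun d => ⟨Iso.refl _⟩
  | succ m ih =>
    intro d
    let hS := ExtZShLib.syzSeq_shortExact F d
    let S := ShortComplex.mk _ _ (ExtZShLib.emb_proj F d)
    let δ := (RDerLES.derivedLES R).δ S hS (m + 1) (m + 2) rfl
    have h0 : ∀ k, IsZero ((R.rightDerived (k + 1)).obj S.X₂) := fun k =>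
      have : Injective S.X₂ := inferInstanceAs (Injective (ExtZShLib.hull (ExtZShLib.syz F d)).1)
      R.isZero_rightDerived_obj_injective_succ k S.X₂
    have : Mono δ := ((RDerLES.derivedLES R).exact₃ S hS (m + 1) (m + 2) rfl).mono_g ((h0 m).eq_of_src _ _)
    have : Epi δ := ((RDerLES.derivedLES R).exact₁ S hS (m + 1) (m + 2) rfl).epi_f ((h0 (m + 1)).eq_of_tgt _ _)
    have : IsIso δ := isIso_of_mono_of_epi δ
    obtain ⟨e⟩ := ih (d + 1)
    exact ⟨(asIso δ).symm ≪≫ e ≪≫ eqToIso (congrArg (fun k => (R.rightDerived 1).obj (Ys F k)) (by omega))⟩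

include adj Φ hι in
theorem nonempty_rightDerived_iso :
    Nonempty ((R.rightDerived r).obj F.1 ≅ RefHull.homSh L (GY F ι)) := by
  have : PreservesFiniteLimits R := by
    have := adj.rightAdjoint_preservesLimits
    infer_instance
  cases r with
  | zero =>
    haveI : IsIso (psi F ι adj Φ hι) := isIso_psi_zero F ι adj Φ hι
    exact ⟨(R.rightDerivedZeroIsoSelf.app (Ys F 0) ≪≫ asIso (psi F ι adj Φ hι) : _)⟩
  | succ j =>
    obtain ⟨e⟩ := nonempty_shift F (R := R) j 0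
    let hS := ExtZShLib.syzSeq_shortExact F j
    let S := ShortComplex.mk _ _ (ExtZShLib.emb_proj F j)
    let δ := (RDerLES.derivedLES R).δ S hS 0 1 rfl
    have : Injective S.X₂ := inferInstanceAs (Injective (ExtZShLib.hull (ExtZShLib.syz F j)).1)
    have : Epi δ := ((RDerLES.derivedLES R).exact₁ S hS 0 1 rfl).epi_f
      ((R.isZero_rightDerived_obj_injective_succ 0 S.X₂).eq_of_tgt _ _)
    let T₀ := ShortComplex.mk _ _ ((RDerLES.derivedLES R).comp_δ S hS 0 1 rfl)
    have hT₀ : T₀.Exact := (RDerLES.derivedLES R).exact₃ S hS 0 1 rfl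
    have : Epi T₀.g := ‹Epi δ›
    have := epi_psi F ι adj Φ hι
    let eI := R.rightDerivedZeroIsoSelf.app (Is F j)
    let eY := R.rightDerivedZeroIsoSelf.app (Ys F (j + 1))
    let T₁ := ShortComplex.mk _ _ (proj_psi F ι adj Φ hι)
    have : Epi T₁.g := ‹Epi (psi F ι adj Φ hι)›
    let a : Arrow.mk T₀.f ≅ Arrow.mk T₁.f :=
      Arrow.isoMk eI eY (R.rightDerivedZeroIsoSelf.hom.naturality (prM F j)).symm
    let e1 : (R.rightDerived 1).obj (Ys F j) ≅ RefHull.homSh L (GY F ι) :=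
      hT₀.gIsCokernel.coconePointUniqueUpToIso (cokernelIsCokernel T₀.f) ≪≫
        cokernel.mapIso T₀.f T₁.f eI eY a.hom.w.symm ≪≫
          (cokernelIsCokernel T₁.f).coconePointUniqueUpToIso (exact_psi F ι adj Φ hι).gIsCokernel
    exact ⟨e ≪≫ eqToIso (congrArg (fun k => (R.rightDerived 1).obj (Ys F k)) (zero_add j)) ≪≫ e1⟩

end Groth.Agent.KosZig
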