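import Mathlib.LinearAlgebra.Alternating.Uncurry.Fin
import Mathlib.LinearAlgebra.ExteriorPower.Basis
import Mathlib.Algebra.Module.Projective
import Mathlib.LinearAlgebra.StdBasis

/-!
# The Koszul zigzag through a resolution

For short exact sequences `0 → Y d → I d → Y (d + 1) → 0`, a tuple `g : Fin n → A` and `z : Y n`
killed by `g`, the value of `z` is an element of `Y 0`, unique modulo `(g) Y 0`, obtained by
descending through alternating maps on `Fin n → A`.
-/

universe u

noncomputable section

namespace Groth.Agent.KosZig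

open AlternatingMap

variable {A : Type u} [CommRing A]

/-- The linear form of a tuple. -/
abbrev form {n : ℕ} (g : Fin n → A) : (Fin n → A) →ₗ[A] A := Fintype.linearCombination A g

/-- Alternating maps on `Fin n → A`. -/
abbrev Alt (A : Type u) [CommRing A] (n k : ℕ) (N : Type u) [AddCommGroup N] [Module A N] : Type u :=
  (Fin n → A) [⋀^Fin k]→ₗ[A] N

section Wedge

variable {n m k : ℕ} {N N' : Type u} [AddCommGroup N] [Module A N] [AddCommGroup N'] [Module A N']

/-- Wedge with a linear form. -/
def wedge (φ : (Fin n → A) →ₗ[A] A) : Alt A n k N →ₗ[A] Alt A n (k + 1) N where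
  toFun c := alternatizeUncurryFin (φ.smulRight c)
  map_add' c c' := by
    rw [← alternatizeUncurryFin_add]
    congr 1
    exact LinearMap.ext fun x => smul_add (φ x) c c'
  map_smul' a c := by
    rw [RingHom.id_apply, ← alternatizeUncurryFin_smul]
    congr 1
    exact LinearMap.ext fun x => smul_comm (φ x) a c

theorem wedge_apply (φ : (Fin n → A) →ₗ[A] A) (c : Alt A n k N) (v : Fin (k + 1) → Fin n → A) :
    wedge φ c v = ∑ i : Fin (k + 1), (-1 : ℤ) ^ (i : ℕ) • φ (v i) • c (Fin.removeNth i v) :=
  alternatizeUncurryFin_apply _ v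

theorem wedge_add_form (φ ψ : (Fin n → A) →ₗ[A] A) (c : Alt A n k N) :
    wedge (φ + ψ) c = wedge φ c + wedge ψ c := by
  ext v
  simp [wedge_apply, add_smul, Finset.sum_add_distrib]

theorem wedge_smul_form (a : A) (φ : (Fin n → A) →ₗ[A] A) (c : Alt A n k N) :
    wedge (a • φ) c = a • wedge φ c := by
  ext v
  simp only [wedge_apply, LinearMap.smul_apply, AlternatingMap.smul_apply, Finset.smul_sum, smul_eq_mul,
    mul_smul, smul_comm a]

theorem wedge_anticomm (φ ψ : (Fin n → A) →ₗ[A] A) (c : Alt A n k N) :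
    wedge φ (wedge ψ c) = -wedge ψ (wedge φ c) := by
  rw [eq_neg_iff_add_eq_zero]
  have h := alternatizeUncurryFin_alternatizeUncurryFinLM_comp_of_symmetric
    (f := φ.smulRight (ψ.smulRight c) + ψ.smulRight (φ.smulRight c)) fun x y => by
      simp only [LinearMap.add_apply, LinearMap.smulRight_apply, LinearMap.smul_apply, smul_smul]
      rw [add_comm, mul_comm (ψ x), mul_comm (φ x)]
  rw [← h]
  show alternatizeUncurryFin _ + alternatizeUncurryFin _ = _
  rw [← alternatizeUncurryFin_add]
  congr 1
  refine LinearMap.ext fun x => ?_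
  simp only [LinearMap.add_apply, LinearMap.smulRight_apply, LinearMap.comp_apply, map_add, map_smul]
  rfl

theorem wedge_self (φ : (Fin n → A) →ₗ[A] A) (c : Alt A n k N) : wedge φ (wedge φ c) = 0 := by
  have h := alternatizeUncurryFin_alternatizeUncurryFinLM_comp_of_symmetric
    (f := φ.smulRight (φ.smulRight c)) fun x y => by
      simp only [LinearMap.smulRight_apply, LinearMap.smul_apply, smul_smul, mul_comm (φ x)]
  rw [← h]
  show alternatizeUncurryFin _ = _
  congr 1
  exact LinearMap.ext fun x => by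
    simp only [LinearMap.smulRight_apply, LinearMap.comp_apply, map_smul]
    rfl

theorem wedge_comp (φ : (Fin n → A) →ₗ[A] A) (L : (Fin m → A) →ₗ[A] (Fin n → A)) (c : Alt A n k N) :
    (wedge φ c).compLinearMap L = wedge (φ.comp L) (c.compLinearMap L) := by
  ext v
  simp only [AlternatingMap.compLinearMap_apply, wedge_apply, LinearMap.comp_apply]
  rfl

theorem wedge_map (φ : (Fin n → A) →ₗ[A] A) (f : N →ₗ[A] N') (c : Alt A n k N) :
    f.compAlternatingMap (wedge φ c) = wedge φ (f.compAlternatingMap c) := by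
  ext v
  simp only [LinearMap.compAlternatingMap_apply, wedge_apply, map_sum, map_zsmul, map_smul]

/-- Alternating maps lift along surjections. -/
theorem exists_lift {f : N →ₗ[A] N'} (hf : Function.Surjective f) (c : Alt A n k N') :
    ∃ cl : Alt A n k N, f.compAlternatingMap cl = c := by
  obtain ⟨F, hF⟩ := Module.projective_lifting_property f (exteriorPower.alternatingMapLinearEquiv c) hf
  refine ⟨F.compAlternatingMap (exteriorPower.ιMulti A k), AlternatingMap.ext fun v => ?_⟩
  show f (F _) = _
  rw [← LinearMap.comp_apply, hF]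
  exact exteriorPower.alternatingMapLinearEquiv_apply_ιMulti c v

/-- Alternating maps into a kernel. -/
theorem exists_factor {f : N →ₗ[A] N'} (hf : Function.Injective f) (c : Alt A n k N')
    (h : ∀ v, c v ∈ LinearMap.range f) : ∃ c' : Alt A n k N, f.compAlternatingMap c' = c := by
  let e := LinearEquiv.ofInjective f hf
  refine ⟨e.symm.toLinearMap.compAlternatingMap (c.codRestrict _ h), AlternatingMap.ext fun v => ?_⟩
  exact congrArg Subtype.val (e.apply_symm_apply ⟨c v, h v⟩)

/-- The standard basis. -/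
def std (A : Type u) [CommRing A] (n : ℕ) : Fin n → Fin n → A := fun i => Pi.single i 1

theorem ext_std {c c' : Alt A n n N} (h : c (std A n) = c' (std A n)) : c = c' := by
  refine (Pi.basisFun A (Fin n)).ext_alternating fun v hv => ?_
  have hb : Function.Bijective v := Finite.injective_iff_bijective.1 hv
  have e : (fun i => Pi.basisFun A (Fin n) (v i)) = std A n ∘ Equiv.ofBijective v hb := by
    funext i
    simp [std]
  rw [e, AlternatingMap.map_perm, AlternatingMap.map_perm, h]

end Wedge

section Zigzag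

variable {Y : ℕ → Type u} {I : ℕ → Type u} [∀ d, AddCommGroup (Y d)] [∀ d, Module A (Y d)]
  [∀ d, AddCommGroup (I d)] [∀ d, Module A (I d)]
  (emb : ∀ d, Y d →ₗ[A] I d) (pr : ∀ d, I d →ₗ[A] Y (d + 1)) {n : ℕ} (g : Fin n → A)

/-- Descending zigzags. -/
inductive Reach : ∀ (d k : ℕ), Alt A n k (Y d) → ∀ (K : ℕ), Alt A n K (Y 0) → Prop
  | base (k : ℕ) (c : Alt A n k (Y 0)) : Reach 0 k c k c
  | step (d k : ℕ) (c : Alt A n k (Y (d + 1))) (cl : Alt A n k (I d))
      (hcl : (pr d).compAlternatingMap cl = c) (c' : Alt A n (k + 1) (Y d))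
      (h : (emb d).compAlternatingMap c' = wedge (form g) cl) (K : ℕ) (C : Alt A n K (Y 0))
      (hC : Reach d (k + 1) c' K C) : Reach (d + 1) k c K C

/-- Exactness data. -/
structure IsSyz : Prop where
  inj : ∀ d, Function.Injective (emb d)
  surj : ∀ d, Function.Surjective (pr d)
  exact : ∀ d, Function.Exact (emb d) (pr d)

variable {emb pr g}

theorem exists_reach (hS : IsSyz emb pr) : ∀ (d k : ℕ) (c : Alt A n k (Y d)), wedge (form g) c = 0 →
    ∀ K, K = k + d → ∃ C, Reach emb pr g d k c K C := by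
  intro d
  induction d with
  | zero => rintro k c - K (rfl : K = k); exact ⟨c, .base K c⟩
  | succ d ih =>
    rintro k c hc K rfl
    obtain ⟨cl, hcl⟩ := exists_lift (hS.surj d) c
    obtain ⟨c', hc'⟩ := exists_factor (hS.inj d) (wedge (form g) cl) fun v => (hS.exact d _).1 (by
      have h := congrFun (congrArg DFunLike.coe (wedge_map (form g) (pr d) cl)) v
      rw [hcl, hc] at h
      exact h)
    have hc0 : wedge (form g) c' = 0 := AlternatingMap.ext fun v => hS.inj d (by
      have h := congrFun (congrArg DFunLike.coe (wedge_map (form g) (emb d) c')) v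
      rw [hc', wedge_self] at h
      exact h.trans (_root_.map_zero _).symm)
    obtain ⟨C, hC⟩ := ih (k + 1) c' hc0 (k + (d + 1)) (by omega)
    exact ⟨C, .step d k c cl hcl c' hc' _ C hC⟩

/-- Boundaries. -/
def IsBd (g : Fin n → A) {N : Type u} [AddCommGroup N] [Module A N] {k : ℕ} (c : Alt A n k N) : Prop :=
  match k, c with
  | 0, c => c = 0
  | j + 1, c => ∃ η : Alt A n j N, wedge (form g) η = c

theorem Reach.isBd (hS : IsSyz emb pr) {d k K : ℕ} {c : Alt A n k (Y d)} {C : Alt A n K (Y 0)}
    (h : Reach emb pr g d k c K C) : IsBd g c → IsBd g C := by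
  induction h with
  | base => exact id
  | step d k c cl hcl c' h K C hC ih =>
    intro hb
    refine ih ?_
    obtain ⟨L, hL, hpr⟩ : ∃ L : Alt A n k (I d), wedge (form g) L = 0 ∧ (pr d).compAlternatingMap L = c := by
      cases k with
      | zero => exact ⟨0, _root_.map_zero _, by rw [show c = 0 from hb]; exact AlternatingMap.ext fun v => _root_.map_zero (pr d)⟩
      | succ k =>
        obtain ⟨η, rfl⟩ := hb
        obtain ⟨ηl, hηl⟩ := exists_lift (hS.surj d) η
        exact ⟨wedge (form g) ηl, wedge_self _ _, by rw [wedge_map, hηl]⟩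
    obtain ⟨η', hη'⟩ := exists_factor (hS.inj d) (cl - L) fun v => (hS.exact d _).1 (by
      show pr d (cl v - L v) = 0
      rw [map_sub, sub_eq_zero]
      exact congrFun (congrArg DFunLike.coe (hcl.trans hpr.symm)) v)
    refine ⟨η', AlternatingMap.ext fun v => hS.inj d ?_⟩
    have h1 := congrFun (congrArg DFunLike.coe (wedge_map (form g) (emb d) η')) v
    rw [hη', map_sub, hL, sub_zero, ← h] at h1
    exact h1

theorem Reach.smul {d k K : ℕ} {c : Alt A n k (Y d)} {C : Alt A n K (Y 0)}
    (h : Reach emb pr g d k c K C) (a : A) : Reach emb pr g d k (a • c) K (a • C) := by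
  induction h with
  | base => exact .base _ _
  | step d k c cl hcl c' h K C hC ih =>
    refine .step d k _ (a • cl) ?_ (a • c') ?_ K _ ih
    · rw [← hcl]; ext v; simp
    · rw [map_smul, ← h]; ext v; simp

theorem Reach.add {d k K : ℕ} {c₁ : Alt A n k (Y d)} {C₁ : Alt A n K (Y 0)}
    (h₁ : Reach emb pr g d k c₁ K C₁) : ∀ {c₂ C₂}, Reach emb pr g d k c₂ K C₂ →
      Reach emb pr g d k (c₁ + c₂) K (C₁ + C₂) := by
  induction h₁ with
  | base => intro c₂ C₂ h₂; cases h₂; exact .base _ _
  | step d k c cl hcl c' h K C hC ih =>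
    intro c₂ C₂ h₂
    cases h₂ with
    | step _ _ _ cl₂ hcl₂ c₂' h₂' _ _ hC₂ =>
      refine .step d k _ (cl + cl₂) ?_ (c' + c₂') ?_ K _ (ih hC₂)
      · rw [← hcl, ← hcl₂]; ext v; simp
      · rw [map_add, ← h, ← h₂']; ext v; simp

variable (emb pr g)

/-- `m` is a value of `z`. -/
def Val (z : Y n) (m : Y 0) : Prop :=
  ∃ C : Alt A n n (Y 0), Reach emb pr g n 0 (AlternatingMap.constOfIsEmpty A (Fin n → A) (Fin 0) z) n C ∧
    C (std A n) = m

variable {emb pr g}

theorem wedge_const_eq_zero {N : Type u} [AddCommGroup N] [Module A N] {z : N} (hz : ∀ i, g i • z = 0) :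
    wedge (form g) (AlternatingMap.constOfIsEmpty A (Fin n → A) (Fin 0) z) = 0 := by
  ext v
  simp [wedge_apply, Fintype.linearCombination_apply, Finset.sum_smul, mul_smul, hz]

theorem exists_val (hS : IsSyz emb pr) {z : Y n} (hz : ∀ i, g i • z = 0) : ∃ m, Val emb pr g z m := by
  obtain ⟨C, hC⟩ := exists_reach hS n 0 _ (wedge_const_eq_zero hz) n (zero_add n).symm
  exact ⟨_, C, hC, rfl⟩

/-- `(g) N`. -/
abbrev gTop (g : Fin n → A) (N : Type u) [AddCommGroup N] [Module A N] : Submodule A N :=
  Ideal.span (Set.range g) • ⊤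

theorem IsBd.mem {N : Type u} [AddCommGroup N] [Module A N] {k : ℕ} {c : Alt A n k N} (h : IsBd g c)
    (v : Fin k → Fin n → A) : c v ∈ gTop g N := by
  cases k with
  | zero => rw [show c = 0 from h]; exact zero_mem _
  | succ k =>
    obtain ⟨η, rfl⟩ := h
    rw [wedge_apply]
    refine Submodule.sum_mem _ fun i _ => zsmul_mem (Submodule.smul_mem_smul ?_ Submodule.mem_top) _
    rw [Fintype.linearCombination_apply]
    exact Submodule.sum_mem _ fun j _ => Ideal.mul_mem_left _ _ (Ideal.subset_span ⟨j, rfl⟩)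

theorem Val.smul {z : Y n} {m : Y 0} (h : Val emb pr g z m) (a : A) :
    Val emb pr g (a • z) (a • m) := by
  obtain ⟨C, hC, rfl⟩ := h
  refine ⟨a • C, ?_, rfl⟩
  convert hC.smul a using 1
  ext v
  rfl

theorem Val.add {z z' : Y n} {m m' : Y 0} (h : Val emb pr g z m) (h' : Val emb pr g z' m') :
    Val emb pr g (z + z') (m + m') := by
  obtain ⟨C, hC, rfl⟩ := h
  obtain ⟨C', hC', rfl⟩ := h'
  refine ⟨C + C', ?_, rfl⟩
  convert hC.add hC' using 1
  ext v
  rfl

theorem Val.mem_of_zero (hS : IsSyz emb pr) {m : Y 0} (h : Val emb pr g 0 m) : m ∈ gTop g (Y 0) := by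
  obtain ⟨C, hC, rfl⟩ := h
  exact (hC.isBd hS (AlternatingMap.ext fun _ => rfl)).mem _

theorem Val.sub_mem (hS : IsSyz emb pr) {z : Y n} {m m' : Y 0} (h : Val emb pr g z m)
    (h' : Val emb pr g z m') : m - m' ∈ gTop g (Y 0) := by
  have := h.add (h'.smul (-1))
  rw [neg_one_smul, neg_one_smul, add_neg_cancel, ← sub_eq_add_neg] at this
  exact this.mem_of_zero hS

/-- Images of killed elements have value zero. -/
theorem val_pr_zero {j : ℕ} {g : Fin (j + 1) → A} {w : I j} (hw : ∀ i, g i • w = 0) :
    Val emb pr g (pr j w) 0 := by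
  refine ⟨0, .step j 0 _ (AlternatingMap.constOfIsEmpty A (Fin (j + 1) → A) (Fin 0) w) ?_ 0 ?_ _ _ ?_, rfl⟩
  · ext v; rfl
  · rw [wedge_const_eq_zero hw]; ext v; simp
  · have : ∀ d k K, K = k + d → Reach emb pr g d k 0 K 0 := by
      intro d
      induction d with
      | zero => rintro k K rfl; exact .base _ _
      | succ d ih =>
        rintro k K rfl
        refine .step d k 0 0 ?_ 0 ?_ _ _ (ih (k + 1) _ (by omega))
        · ext v; simp
        · rw [_root_.map_zero]; ext v; simp
    exact this j 1 _ (by omega)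

end Zigzag

end Groth.Agent.KosZig
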