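import Groth.Agent.KosZig.System
import Groth.Prelude.Def_RefHull

/-!
# The comparison map from killed cosyzygies to homomorphisms out of the top conormal power
-/

universe u

open CategoryTheory CategoryTheory.Limits AlgebraicGeometry TopologicalSpace Opposite
open Groth.Agent.PullStalk.Sky Groth.Agent.PullStalk.Exact Groth.Agent.PullStalk.Basic

noncomputable section

namespace Groth.Agent.KosZig

set_option maxHeartbeats 800000
set_option synthInstance.maxHeartbeats 400000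

variable {P X : Scheme.{u}} [IsLocallyNoetherian P] [EnoughInjectives P.Modules]
  (F : {M : P.Modules // Coh.IsQCoh M}) (ι : X ⟶ P) [IsClosedImmersion ι]
  {R : P.Modules ⥤ X.Modules} (adj : Scheme.Modules.pushforward ι ⊣ R) {r : ℕ}
  {L : X.Modules} (Φ : ExtPowSt.Sys r (Omega.conormal ι) L)

/-- The pullback of `F`. -/
abbrev GY : X.Modules := (Scheme.Modules.pullback ι).obj F.1

/-- The unit on stalks, on the bottom of the resolution. -/
def uS (y : X) : sY F (ι y) 0 →+ (GY F ι).presheaf.stalk y :=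
  (unitStalkHom ι F.1 y).hom

theorem uS_smul (y : X) (a : P.presheaf.stalk (ι y)) (m : sY F (ι y) 0) :
    uS F ι y (a • m) = ι.stalkMap y a • uS F ι y m :=
  unitStalkHom_smul ι F.1 y a m

theorem uS_germ (y : X) (U : P.Opens) (hy : ι y ∈ U) (m : Γ(Ys F 0, U)) :
    uS F ι y (germM (Ys F 0) U (ι y) hy m) = germM (GY F ι) (ι ⁻¹ᵁ U) y hy
      (((Scheme.Modules.pullbackPushforwardAdjunction ι).unit.app F.1).app U m) :=
  unitStalkHom_germ ι F.1 y U hy m

theorem unit_gTop_eq_zero {n : ℕ} {y : X} {g : Fin n → P.presheaf.stalk (ι y)}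
    (hg : ∀ i, ι.stalkMap y (g i) = 0) {m : sY F (ι y) 0} (hm : m ∈ gTop g (sY F (ι y) 0)) :
    uS F ι y m = 0 := by
  refine Submodule.smul_induction_on hm (fun a ha x _ => ?_) fun a b ha hb => ?_
  · have hle : Ideal.span (Set.range g) ≤ RingHom.ker (ι.stalkMap y).hom :=
      Ideal.span_le.2 (Set.range_subset_iff.2 hg)
    refine (uS_smul F ι y a x).trans ?_
    rw [show ι.stalkMap y a = 0 from hle ha, zero_smul]
  · rw [map_add, ha, hb, add_zero]

theorem unit_surjective (y : X) : Function.Surjective (uS F ι y) := by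
  letI := (ι.stalkMap y).hom.toAlgebra
  letI := moduleOver ι F.1 y
  haveI : IsScalarTower (P.presheaf.stalk (ι y)) (X.presheaf.stalk y)
      (((Scheme.Modules.pullback ι).obj F.1).presheaf.stalk y) :=
    IsScalarTower.of_algebraMap_smul fun _ _ => rfl
  exact ClUnit.isBaseChange_surjective (isBaseChange_unitStalk ι F.1 y) (ι.stalkMap_surjective y)

theorem mem_gTop_of_unit {n : ℕ} {y : X} {g : Fin n → P.presheaf.stalk (ι y)}
    (hg : Ideal.span (Set.range g) = RingHom.ker (ι.stalkMap y).hom) {m : sY F (ι y) 0}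
    (hm : uS F ι y m = 0) : m ∈ gTop g (sY F (ι y) 0) := by
  let A := P.presheaf.stalk (ι y)
  let B := X.presheaf.stalk y
  letI := (ι.stalkMap y).hom.toAlgebra
  letI := moduleOver ι F.1 y
  haveI : IsScalarTower A B (((Scheme.Modules.pullback ι).obj F.1).presheaf.stalk y) :=
    IsScalarTower.of_algebraMap_smul fun _ _ => rfl
  have hS : Function.Surjective (algebraMap A B) := ι.stalkMap_surjective y
  let Q := sY F (ι y) 0 ⧸ gTop g (sY F (ι y) 0)
  have hk : ∀ a ∈ RingHom.ker (algebraMap A B), ∀ q : Q, a • q = 0 := fun a ha q => by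
    obtain ⟨x, rfl⟩ := Submodule.mkQ_surjective _ q
    rw [← map_smul]
    exact (Submodule.Quotient.mk_eq_zero _).2 (Submodule.smul_mem_smul (hg.ge ha) Submodule.mem_top)
  letI : SMul B Q := ⟨fun s q => (hS s).choose • q⟩
  have key : ∀ (a : A) (q : Q), algebraMap A B a • q = a • q := fun a q => by
    change (hS (algebraMap A B a)).choose • q = a • q
    rw [← sub_eq_zero, ← sub_smul]
    exact hk _ (by rw [RingHom.mem_ker, map_sub, (hS (algebraMap A B a)).choose_spec, sub_self]) q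
  letI : Module B Q := Function.Surjective.moduleLeft (algebraMap A B) hS key
  haveI : IsScalarTower A B Q := IsScalarTower.of_algebraMap_smul key
  have h := (isBaseChange_unitStalk ι F.1 y).lift_eq (Submodule.mkQ _ : sY F (ι y) 0 →ₗ[A] Q) m
  rw [show unitStalk ι F.1 y m = 0 from hm] at h
  erw [map_zero] at h
  exact (Submodule.Quotient.mk_eq_zero _).1 h.symm

/-- The defining property of the comparison map at a point. -/
def IsHom (y : X) (s : (R.obj (Ys F r)).presheaf.stalk y) (h : RefHull.StalkHom L (GY F ι) y) : Prop :=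
  ∀ (g : Fin r → RingHom.ker (ι.stalkMap y).hom) (m : sY F (ι y) 0),
    Val (sEmb F (ι y)) (sPr F (ι y)) (fun i => (g i).1) (tau ι adj (Ys F r) y s) m →
      h (omega ι Φ y g) = uS F ι y m

variable (hι : RegImm.IsRegularImmersionOfCodim RegImm.Kind.regular r ι)

include hι in
theorem existsUnique_isHom (y : X) (s : (R.obj (Ys F r)).presheaf.stalk y) :
    ∃! h, IsHom F ι adj Φ y s h := by
  obtain ⟨c, hc⟩ := exists_chart ι hι y
  let e := LinearEquiv.ofBijective _ (c.bijective_omega ι Φ hc)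
  have hkill : ∀ a : P.presheaf.stalk (ι y), ι.stalkMap y a = 0 → a • tau ι adj (Ys F r) y s = 0 :=
    fun a ha => smul_tau ι adj _ y a ha s
  obtain ⟨m₀, hm₀⟩ := exists_val (isSyz_stalk F (ι y)) fun i => hkill _ (c.g_mem ι hc i)
  refine ⟨(LinearMap.toSpanSingleton (X.presheaf.stalk y) _ (uS F ι y m₀)).comp
    e.symm.toLinearMap, fun g m hm => ?_, fun h' hh' => ?_⟩
  · have hex : ∀ i, ∃ M : Fin r → P.presheaf.stalk (ι y), form (c.g ι hc) M = (g i).1 := fun i => by
      obtain ⟨M, hM⟩ := Ideal.mem_span_range_iff_exists_fun.1 ((c.span_g ι hc).ge (g i).2)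
      exact ⟨M, by rw [Fintype.linearCombination_apply]; exact hM⟩
    choose M hM using hex
    obtain ⟨C, hC0, hC⟩ := exists_val_all hm₀
    have hv := hC M
    rw [show (fun i => form (c.g ι hc) (M i)) = fun i => (g i).1 from funext hM] at hv
    have hu : uS F ι y m = ι.stalkMap y (Matrix.of M).det • uS F ι y m₀ := by
      have h0 := unit_gTop_eq_zero F ι (fun i => (g i).2) (hm.sub_mem (isSyz_stalk F (ι y)) hv)
      rw [map_sub, sub_eq_zero] at h0
      rw [h0, eq_det_smul C M, hC0]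
      exact uS_smul F ι y _ m₀
    rw [c.omega_eq ι Φ hc g M hM, map_smul, hu]
    congr 1
    rw [LinearMap.comp_apply, LinearEquiv.coe_coe, LinearMap.toSpanSingleton_apply]
    rw [show e.symm (c.omega ι Φ hc) = 1 from e.symm_apply_eq.2 (show c.omega ι Φ hc = (1 : X.presheaf.stalk y) • c.omega ι Φ hc from (one_smul _ _).symm), one_smul]
  · refine LinearMap.ext fun l => ?_
    obtain ⟨b, rfl⟩ := e.surjective l
    show h' (b • c.omega ι Φ hc) = e.symm (e b) • _
    rw [e.symm_apply_apply, map_smul]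
    congr 1
    exact hh' (fun i => ⟨c.g ι hc i, c.g_mem ι hc i⟩) m₀ hm₀

/-- The comparison map at a point. -/
def homAt (y : X) (s : (R.obj (Ys F r)).presheaf.stalk y) : RefHull.StalkHom L (GY F ι) y :=
  (existsUnique_isHom F ι adj Φ hι y s).choose

theorem isHom_homAt (y : X) (s : (R.obj (Ys F r)).presheaf.stalk y) :
    IsHom F ι adj Φ y s (homAt F ι adj Φ hι y s) :=
  (existsUnique_isHom F ι adj Φ hι y s).choose_spec.1

theorem homAt_eq (y : X) {s : (R.obj (Ys F r)).presheaf.stalk y} {h : RefHull.StalkHom L (GY F ι) y}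
    (hh : IsHom F ι adj Φ y s h) : homAt F ι adj Φ hι y s = h :=
  (existsUnique_isHom F ι adj Φ hι y s).unique (isHom_homAt F ι adj Φ hι y s) hh

theorem exists_val_tau (y : X) (s : (R.obj (Ys F r)).presheaf.stalk y)
    (g : Fin r → RingHom.ker (ι.stalkMap y).hom) :
    ∃ m, Val (sEmb F (ι y)) (sPr F (ι y)) (fun i => (g i).1) (tau ι adj (Ys F r) y s) m :=
  exists_val (isSyz_stalk F (ι y)) fun i => smul_tau ι adj _ y _ (g i).2 s

theorem homAt_add (y : X) (s t : (R.obj (Ys F r)).presheaf.stalk y) :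
    homAt F ι adj Φ hι y (s + t) = homAt F ι adj Φ hι y s + homAt F ι adj Φ hι y t :=
  homAt_eq F ι adj Φ hι y fun g m hm => by
    obtain ⟨ms, hs⟩ := exists_val_tau F ι adj y s g
    obtain ⟨mt, ht⟩ := exists_val_tau F ι adj y t g
    have h := hs.add ht
    rw [← map_add] at h
    have h0 := unit_gTop_eq_zero F ι (fun i => (g i).2) (hm.sub_mem (isSyz_stalk F (ι y)) h)
    rw [map_sub, sub_eq_zero] at h0
    rw [LinearMap.add_apply, isHom_homAt F ι adj Φ hι y s g ms hs,
      isHom_homAt F ι adj Φ hι y t g mt ht, h0, map_add]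

theorem homAt_smul (y : X) (b : X.presheaf.stalk y) (s : (R.obj (Ys F r)).presheaf.stalk y) :
    homAt F ι adj Φ hι y (b • s) = b • homAt F ι adj Φ hι y s :=
  homAt_eq F ι adj Φ hι y fun g m hm => by
    obtain ⟨a, rfl⟩ := ι.stalkMap_surjective y b
    obtain ⟨ms, hs⟩ := exists_val_tau F ι adj y s g
    have h := hs.smul a
    rw [← tau_smul] at h
    have h0 := unit_gTop_eq_zero F ι (fun i => (g i).2) (hm.sub_mem (isSyz_stalk F (ι y)) h)
    rw [map_sub, sub_eq_zero] at h0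
    rw [LinearMap.smul_apply, isHom_homAt F ι adj Φ hι y s g ms hs, h0]
    exact (uS_smul F ι y a ms).symm

theorem homAt_isLocSect (V : X.Opens) (σ : Γ(R.obj (Ys F r), V)) :
    RefHull.IsLocSect L (GY F ι) (U := V) fun y =>
      homAt F ι adj Φ hι y.1 (germM (R.obj (Ys F r)) V y.1 y.2 σ) := by
  obtain ⟨O, hO, hOV⟩ := ι.isClosedEmbedding.isInducing.isOpen_iff.mp V.2
  obtain rfl : ι ⁻¹ᵁ (⟨O, hO⟩ : P.Opens) = V := Opens.ext hOV
  intro V' i l x
  have hxO : ι x.1 ∈ (⟨O, hO⟩ : P.Opens) := i.le x.2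
  obtain ⟨c₀, hc₀⟩ := exists_chart ι hι x.1
  obtain ⟨c, hc, hcO, -⟩ := c₀.exists_le ι hc₀ hxO
  let t : Γ(Ys F r, c.W.1) := (adj.counit.app (Ys F r)).app c.W.1
    (QCoh.res ((Scheme.Modules.pushforward ι).obj (R.obj (Ys F r))) hcO σ)
  have ht : ∀ i, c.f i • t = 0 := fun i => by
    have hf : c.f i ∈ ι.ker.ideal c.W := by
      rw [Scheme.Hom.ker_apply, c.ker_app]
      exact Ideal.subset_span ⟨i, rfl⟩
    rw [← Scheme.Modules.Hom.app_smul]
    exact (congrArg ((adj.counit.app (Ys F r)).app c.W.1)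
      (Props.KilledSub.smul_push_eq_zero ι _ c.W hf _)).trans (map_zero _)
  obtain ⟨m, hm⟩ := exists_section_value F c.W c.f t ht
  obtain ⟨w, hw⟩ := c.exists_section ι Φ
  obtain ⟨a, ha⟩ := (c.bijective_omega ι Φ hc).2 (germM L V' x.1 x.2 l)
  obtain ⟨Va, hVa, α, rfl⟩ := X.presheaf.exists_germ_eq (x := x.1) a
  let D : X.Opens := V' ⊓ Va ⊓ ι ⁻¹ᵁ c.W.1
  have hxD : x.1 ∈ D := ⟨⟨x.2, hVa⟩, hc⟩
  let α' : Γ(X, D) := QCoh.rres (inf_le_left.trans inf_le_right) α
  let w' : Γ(L, D) := QCoh.res L inf_le_right w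
  have he : germM L D x.1 hxD (QCoh.res L (inf_le_left.trans inf_le_left) l) = germM L D x.1 hxD (α' • w') := by
    rw [germM_smul, HomShQC.germM_res L (inf_le_left.trans inf_le_left : D ≤ V') x.1 hxD,
      HomShQC.germM_res L (inf_le_right : D ≤ ι ⁻¹ᵁ c.W.1) x.1 hxD, hw, X.presheaf.germ_res_apply]
    exact ha.symm
  obtain ⟨D', hxD', i₁, i₂, he'⟩ := L.presheaf.germ_eq x.1 hxD hxD _ _ he
  let n : Γ(GY F ι, ι ⁻¹ᵁ c.W.1) :=
    ((Scheme.Modules.pullbackPushforwardAdjunction ι).unit.app F.1).app c.W.1 m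
  refine ⟨D', hxD', homOfLE (i₁.le.trans (inf_le_left.trans inf_le_left)),
    QCoh.rres i₁.le α' • QCoh.res (GY F ι) (i₁.le.trans inf_le_right) n, fun z => ?_⟩
  have hzD : z.1 ∈ D := i₁.le z.2
  have hzW : ι z.1 ∈ c.W.1 := hzD.2
  show homAt F ι adj Φ hι z.1 (germM (R.obj (Ys F r)) (ι ⁻¹ᵁ ⟨O, hO⟩) z.1 _ σ)
      (germM L V' z.1 (hzD.1.1) l) =
    germM (GY F ι) D' z.1 z.2 (QCoh.rres i₁.le α' • QCoh.res (GY F ι) (i₁.le.trans inf_le_right) n)
  have hl : germM L V' z.1 hzD.1.1 l = X.presheaf.germ D z.1 hzD α' • c.omega ι Φ hzW := by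
    rw [← HomShQC.germM_res L (inf_le_left.trans inf_le_left : D ≤ V') z.1 hzD,
      ← HomShQC.germM_res L i₁.le z.1 z.2]
    refine (congrArg (germM L D' z.1 z.2) he').trans ?_
    rw [show L.presheaf.map i₂.op (α' • w') = QCoh.res L i₂.le (α' • w') from rfl,
      HomShQC.germM_res L i₂.le z.1 z.2, germM_smul,
      HomShQC.germM_res L (inf_le_right : D ≤ ι ⁻¹ᵁ c.W.1) z.1 hzD, hw]
  have hσ : tau ι adj (Ys F r) z.1 (germM (R.obj (Ys F r)) (ι ⁻¹ᵁ ⟨O, hO⟩) z.1 (hcO hzW) σ) =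
      germM (Ys F r) c.W.1 (ι z.1) hzW t := by
    rw [← tau_germ ι adj (Ys F r) z.1 c.W.1 hzW]
    exact congrArg (tau ι adj (Ys F r) z.1)
      ((R.obj (Ys F r)).presheaf.germ_res_apply (homOfLE (fun p hp => hcO hp)) z.1 hzW σ).symm
  obtain ⟨m', hm'⟩ := exists_val_tau F ι adj z.1 (germM (R.obj (Ys F r)) (ι ⁻¹ᵁ ⟨O, hO⟩) z.1 (hcO hzW) σ)
    fun i => ⟨c.g ι hzW i, c.g_mem ι hzW i⟩
  have hmm := unit_gTop_eq_zero F ι (fun i => c.g_mem ι hzW i) (hm (ι z.1) hzW m' (by rw [← hσ]; exact hm'))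
  rw [map_sub, sub_eq_zero] at hmm
  rw [hl, map_smul, germM_smul, HomShQC.germM_res (GY F ι) (i₁.le.trans inf_le_right) z.1 z.2,
    X.presheaf.germ_res_apply]
  congr 1
  · simp only [α', QCoh.rres_rres]
    exact (X.presheaf.germ_res_apply _ _ _ _).symm
  refine (isHom_homAt F ι adj Φ hι z.1 _ _ m' hm').trans (hmm.symm.trans ?_)
  exact uS_germ F ι z.1 c.W.1 hzW m

/-- The comparison map. -/
def psi : R.obj (Ys F r) ⟶ RefHull.homSh L (GY F ι) :=
  ⟨PresheafOfModules.homMk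
    { app := fun U => AddCommGrpCat.ofHom (AddMonoidHom.mk' (G := Γ(RefHull.homSh L (GY F ι), U.unop))
        (fun (σ : Γ(R.obj (Ys F r), U.unop)) =>
          ⟨fun y => homAt F ι adj Φ hι y.1 (germM _ U.unop y.1 y.2 σ), homAt_isLocSect F ι adj Φ hι U.unop σ⟩)
        fun σ σ' => Subtype.ext (funext fun y =>
          (congrArg (homAt F ι adj Φ hι y.1) (map_add ((R.obj (Ys F r)).presheaf.germ U.unop y.1 y.2).hom σ σ')).trans
            (homAt_add F ι adj Φ hι y.1 _ _)))
      naturality := fun {U V} i => by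
        ext σ
        refine Subtype.ext (funext fun y => ?_)
        exact congrArg (homAt F ι adj Φ hι y.1) ((R.obj (Ys F r)).presheaf.germ_res_apply' i y.1 y.2 σ) }
    fun U a σ => Subtype.ext (funext fun y =>
      (congrArg (homAt F ι adj Φ hι y.1) (germM_smul (R.obj (Ys F r)) U.unop y.1 y.2 a σ)).trans
        (homAt_smul F ι adj Φ hι y.1 _ _))⟩

theorem eval_psi (y : X) (s : (R.obj (Ys F r)).presheaf.stalk y) :
    RefHull.evalStalk L (GY F ι) y (stalkLin (psi F ι adj Φ hι) y s) = homAt F ι adj Φ hι y s := by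
  obtain ⟨U, hy, σ, rfl⟩ := exists_germM_eq _ y s
  rw [stalkLin_germ]
  exact (RefHull.evalStalk_germ L (GY F ι) y hy _).trans rfl

end Groth.Agent.KosZig
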