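import Groth.Agent.Props.KilledSub
import Groth.Agent.DualAbs.Closed
import Groth.Agent.RegImm38.Spread
import Groth.Agent.Omega.Stalks

/-!
# Stalks of the counit of a right adjoint of the direct image along a closed immersion
-/

universe u

open CategoryTheory CategoryTheory.Limits AlgebraicGeometry TopologicalSpace Opposite
open Groth.Agent.PullStalk.Sky Groth.Agent.PullStalk.Exact

noncomputable section

namespace Groth.Agent.KosZig

set_option maxHeartbeats 800000
set_option synthInstance.maxHeartbeats 400000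

variable {P X : Scheme.{u}} (ι : X ⟶ P)

/-- The ideal of `ι` is `(f)` over the affine open `W`, and `f` is regular at the points of `X` there. -/
structure Chart (r : ℕ) where
  W : P.affineOpens
  f : Fin r → Γ(P, W.1)
  ker_app : RingHom.ker (ι.app W.1).hom = Ideal.span (Set.range f)
  reg : RingTheory.Sequence.IsWeaklyRegular Γ(P, W.1) (List.ofFn f)

variable [IsClosedImmersion ι]

theorem Chart.ker_stalk {r : ℕ} (c : Chart ι r) (z : X) (hz : ι z ∈ c.W.1) :
    RingHom.ker (ι.stalkMap z).hom =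
      Ideal.span (Set.range fun i => P.presheaf.germ c.W.1 (ι z) hz (c.f i)) := by
  have : IsClosedImmersion (ι ∣_ c.W.1) := IsZariskiLocalAtTarget.restrict ‹_› c.W.1
  rw [RegImm38.ker_stalkMap_eq_map ι c.W.2 z hz, c.ker_app, Ideal.map_span, ← Set.range_comp]
  rfl

variable {R : P.Modules ⥤ X.Modules} (adj : Scheme.Modules.pushforward ι ⊣ R)

theorem exists_iso_killed (M : P.Modules) :
    ∃ e : (Scheme.Modules.pushforward ι).obj (R.obj M) ≅ Props.KilledSub.A ι M,
      e.hom ≫ Props.KilledSub.ι ι M = adj.counit.app M := by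
  let G := Props.KilledSub.G ι M
  obtain ⟨h, hh⟩ := Props.KilledSub.exists_lift ι
    (show (Scheme.Modules.pushforward ι).obj (R.obj M) ⟶ M from adj.counit.app M) fun U a ha s =>
    Props.KilledSub.smul_push_eq_zero ι _ U ha s
  let g : (Scheme.Modules.pushforward ι).obj G ⟶ M :=
    (Props.KilledSub.isoA ι).inv ≫ Props.KilledSub.ι ι M
  let φ : G ⟶ R.obj M := adj.homEquiv _ _ g
  have hφ : (Scheme.Modules.pushforward ι).map φ ≫ adj.counit.app M = g :=
    (Adjunction.homEquiv_counit adj _ _ _).symm.trans ((adj.homEquiv _ _).symm_apply_apply g)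
  let θ : R.obj M ⟶ R.obj M :=
    (Props.KilledSub.fullyFaithful ι).preimage (h ≫ (Props.KilledSub.isoA ι).hom) ≫ φ
  have hθ : (Scheme.Modules.pushforward ι).map θ ≫ adj.counit.app M = adj.counit.app M := by
    rw [Functor.map_comp, Category.assoc, hφ, (Props.KilledSub.fullyFaithful ι).map_preimage, Category.assoc]
    simp only [g, Iso.hom_inv_id_assoc]
    exact hh
  have hid : θ = 𝟙 _ := by
    refine (adj.homEquiv _ _).symm.injective ?_
    rw [Adjunction.homEquiv_counit, Adjunction.homEquiv_counit, hθ, CategoryTheory.Functor.map_id,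
      Category.id_comp]
  refine ⟨⟨h, (Props.KilledSub.isoA ι).hom ≫ (Scheme.Modules.pushforward ι).map φ, ?_, ?_⟩, hh⟩
  · have : h ≫ (Props.KilledSub.isoA ι).hom ≫ (Scheme.Modules.pushforward ι).map φ =
        (Scheme.Modules.pushforward ι).map θ := by
      rw [Functor.map_comp, (Props.KilledSub.fullyFaithful ι).map_preimage, Category.assoc]
    rw [this, hid, CategoryTheory.Functor.map_id]
  · rw [← cancel_mono (Props.KilledSub.ι ι M), Category.assoc, Category.assoc, hh, hφ, Category.id_comp]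
    simp only [g, Iso.hom_inv_id_assoc]

theorem mono_counit (M : P.Modules) : Mono (adj.counit.app M) := by
  obtain ⟨e, he⟩ := exists_iso_killed ι adj M
  rw [← he]
  infer_instance

/-- Stalks of a direct image. -/
def xi (N : X.Modules) (y : X) :
    ((Scheme.Modules.pushforward ι).obj N).presheaf.stalk (ι y) ≃+ N.presheaf.stalk y :=
  AddEquiv.ofBijective (TopCat.Presheaf.stalkPushforward AddCommGrpCat ι.base N.presheaf y).hom
    (ClUnit.stalkPushforward_bijective ι _ ι.isClosedEmbedding.isInducing y)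

theorem xi_smul (N : X.Modules) (y : X) (a : P.presheaf.stalk (ι y)) (v) :
    xi ι N y (a • v) = ι.stalkMap y a • xi ι N y v :=
  DualAbs.stalkPushforward_smul ι N y a v

theorem xi_germ (N : X.Modules) (y : X) (U : P.Opens) (hy : ι y ∈ U)
    (s : Γ((Scheme.Modules.pushforward ι).obj N, U)) :
    xi ι N y (germM _ U (ι y) hy s) = germM N (ι ⁻¹ᵁ U) y hy s := by
  show (TopCat.Presheaf.stalkPushforward AddCommGrpCat ι.base N.presheaf y).hom _ = _
  erw [TopCat.Presheaf.stalkPushforward_germ_apply]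

/-- The counit on stalks. -/
def tau (M : P.Modules) (y : X) : (R.obj M).presheaf.stalk y →+ M.presheaf.stalk (ι y) :=
  (stalkLin (adj.counit.app M) (ι y)).toAddMonoidHom.comp (xi ι (R.obj M) y).symm.toAddMonoidHom

theorem tau_apply (M : P.Modules) (y : X) (v) :
    tau ι adj M y (xi ι (R.obj M) y v) = stalkLin (adj.counit.app M) (ι y) v := by
  show stalkLin _ _ ((xi ι (R.obj M) y).symm _) = _
  rw [AddEquiv.symm_apply_apply]

theorem tau_germ (M : P.Modules) (y : X) (U : P.Opens) (hy : ι y ∈ U) (s : Γ(R.obj M, ι ⁻¹ᵁ U)) :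
    tau ι adj M y (germM (R.obj M) (ι ⁻¹ᵁ U) y hy s) = germM M U (ι y) hy ((adj.counit.app M).app U s) := by
  rw [← xi_germ ι (R.obj M) y U hy s, tau_apply]
  exact stalkLin_germ (adj.counit.app M) U (ι y) hy (show Γ((R ⋙ Scheme.Modules.pushforward ι).obj M, U) from s)

theorem tau_smul (M : P.Modules) (y : X) (a : P.presheaf.stalk (ι y)) (s) :
    tau ι adj M y (ι.stalkMap y a • s) = a • tau ι adj M y s := by
  obtain ⟨v, rfl⟩ := (xi ι (R.obj M) y).surjective s
  rw [← xi_smul, tau_apply, tau_apply, map_smul]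

theorem smul_tau (M : P.Modules) (y : X) (a : P.presheaf.stalk (ι y)) (ha : ι.stalkMap y a = 0) (s) :
    a • tau ι adj M y s = 0 := by
  rw [← tau_smul, ha, zero_smul, map_zero]

theorem tau_injective (M : P.Modules) (y : X) : Function.Injective (tau ι adj M y) :=
  have := mono_counit ι adj M
  (Omega.Stalks.stalkLin_injective_of_mono _ _).comp (xi ι (R.obj M) y).symm.injective

theorem tau_map {M M' : P.Modules} (φ : M ⟶ M') (y : X) (s : (R.obj M).presheaf.stalk y) :
    tau ι adj M' y (stalkLin (R.map φ) y s) = stalkLin φ (ι y) (tau ι adj M y s) := by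
  obtain ⟨V, hV, m, rfl⟩ := exists_germM_eq (R.obj M) y s
  obtain ⟨O, hO, hOV⟩ := ι.isClosedEmbedding.isInducing.isOpen_iff.mp V.2
  obtain rfl : ι ⁻¹ᵁ (⟨O, hO⟩ : P.Opens) = V := Opens.ext hOV
  rw [stalkLin_germ, tau_germ, tau_germ, stalkLin_germ]
  exact congrArg (germM M' _ (ι y) hV)
    (congrArg (fun ψ => ψ.app ⟨O, hO⟩ m) (adj.counit.naturality φ))

theorem exists_of_killed {r : ℕ} (c : Chart ι r) (M : P.Modules) (y : X) (hy : ι y ∈ c.W.1)
    {t : M.presheaf.stalk (ι y)} (ht : ∀ i, P.presheaf.germ c.W.1 (ι y) hy (c.f i) • t = 0) :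
    ∃ s, tau ι adj M y s = t := by
  obtain ⟨e, he⟩ := exists_iso_killed ι adj M
  obtain ⟨U, hyU, m, rfl⟩ := exists_germM_eq M (ι y) t
  let O := c.W.1 ⊓ U
  have hO : ι y ∈ O := ⟨hy, hyU⟩
  let fa : Fin r → Γ(P, O) := fun i => QCoh.rres inf_le_left (c.f i)
  let mO : Γ(M, O) := QCoh.res M inf_le_right m
  have hz : ∀ i, ∃ (O' : P.Opens) (h : O' ≤ O), ι y ∈ O' ∧ QCoh.res M h (fa i • mO) = 0 := fun i => by
    have h1 : germM M O (ι y) hO (fa i • mO) = germM M O (ι y) hO 0 := by
      rw [germM_smul, HomShQC.germM_res M (inf_le_right : O ≤ U) (ι y) hO, P.presheaf.germ_res_apply, ht i]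
      exact (map_zero _).symm
    obtain ⟨O', hyO', i₁, i₂, h2⟩ := M.presheaf.germ_eq (ι y) hO hO _ _ h1
    exact ⟨O', i₁.le, hyO', h2.trans (map_zero (M.presheaf.map i₂.op).hom)⟩
  choose O' hO' hyO' hzero using hz
  let O'' : P.Opens := O ⊓ ⟨⋂ i, (O' i : Set P), isOpen_iInter_of_finite fun i => (O' i).2⟩
  obtain ⟨W, hW, hyW, hWle⟩ := exists_isAffineOpen_mem_and_subset (X := P) (x := ι y) (U := O'')
    ⟨hO, Set.mem_iInter.2 hyO'⟩
  have hWO : W ≤ O := (show W ≤ O'' from hWle).trans inf_le_left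
  let W' : P.affineOpens := ⟨W, hW⟩
  have hkill : ∀ a ∈ ι.ker.ideal W', a • QCoh.res M (hWO.trans inf_le_right) m = 0 := by
    intro a ha
    rw [← ι.ker.map_ideal (U := W') (V := c.W) (hWO.trans inf_le_left), Scheme.Hom.ker_apply, c.ker_app,
      Ideal.map_span] at ha
    induction ha using Submodule.span_induction with
    | mem b hb =>
      obtain ⟨_, ⟨i, rfl⟩, rfl⟩ := hb
      have hWi : W ≤ O' i := fun z hz => Set.mem_iInter.1 ((show W ≤ O'' from hWle) hz).2 i
      have h4 := congrArg (QCoh.res M hWi) (hzero i)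
      rw [QCoh.res_res, map_zero, QCoh.res_smul] at h4
      simp only [fa, mO, QCoh.res_res, QCoh.rres_rres] at h4
      exact h4
    | zero => exact zero_smul _ _
    | add b b' _ _ hb hb' => rw [add_smul, hb, hb', add_zero]
    | smul q b _ hb => rw [smul_assoc, hb, smul_zero]
  obtain ⟨σ, hσ⟩ := (Props.KilledSub.mem_range_iff ι W' _).2 hkill
  let σ' : Γ((Scheme.Modules.pushforward ι).obj (R.obj M), W) := e.inv.app W σ
  refine ⟨germM (R.obj M) (ι ⁻¹ᵁ W) y hyW σ', ?_⟩
  rw [tau_germ, ← HomShQC.germM_res M (hWO.trans inf_le_right : W ≤ U) (ι y) hyW m]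
  refine congrArg (germM M W (ι y) hyW) (Eq.trans ?_ hσ)
  have h5 : e.inv ≫ adj.counit.app M = Props.KilledSub.ι ι M := by rw [← he, Iso.inv_hom_id_assoc]
  exact congrArg (fun ψ => ψ.app W σ) h5

end Groth.Agent.KosZig
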