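import Groth.Agent.KosZig.Basic
import Mathlib.Algebra.Module.Injective
import Mathlib.LinearAlgebra.Isomorphisms

/-!
# The zigzag value detects cohomology, for regular tuples
-/

universe u

noncomputable section

namespace Groth.Agent.KosZig

open AlternatingMap

variable {A : Type u} [CommRing A]

/-- Each member is regular modulo the previous ones. -/
def Reg : ∀ {n : ℕ}, (Fin n → A) → Prop
  | 0, _ => True
  | n + 1, g => Reg (fun i : Fin n => g i.castSucc) ∧
      ∀ a : A, g (Fin.last n) * a ∈ Ideal.span (Set.range fun i : Fin n => g i.castSucc) →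
        a ∈ Ideal.span (Set.range fun i : Fin n => g i.castSucc)

variable {Y : ℕ → Type u} {I : ℕ → Type u} [∀ d, AddCommGroup (Y d)] [∀ d, Module A (Y d)]
  [∀ d, AddCommGroup (I d)] [∀ d, Module A (I d)]
  {emb : ∀ d, Y d →ₗ[A] I d} {pr : ∀ d, I d →ₗ[A] Y (d + 1)}

theorem exists_div {J : Ideal A} {a : A} (ha : ∀ b, a * b ∈ J → b ∈ J) {Q : Type u} [AddCommGroup Q]
    [Module A Q] [hQ : Module.Injective A Q] {w : Q} (hw : ∀ b ∈ J, b • w = 0) :
    ∃ u : Q, a • u = w ∧ ∀ b ∈ J, b • u = 0 := by
  let μ : A ⧸ J →ₗ[A] A ⧸ J := a • LinearMap.id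
  have hμ : Function.Injective μ := (injective_iff_map_eq_zero _).2 fun x hx => by
    obtain ⟨b, rfl⟩ := Submodule.mkQ_surjective J x
    refine (Submodule.Quotient.mk_eq_zero J).2 (ha b ?_)
    exact (Submodule.Quotient.mk_eq_zero J).1 hx
  let f : A ⧸ J →ₗ[A] Q := Submodule.liftQ J (LinearMap.toSpanSingleton A Q w) fun b hb => hw b hb
  obtain ⟨h, hh⟩ := hQ.out μ hμ f
  refine ⟨h (Submodule.Quotient.mk 1), ?_, fun b hb => ?_⟩
  · rw [← map_smul]
    refine (hh (Submodule.Quotient.mk 1)).trans ?_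
    exact one_smul A w
  · rw [← map_smul, ← Submodule.Quotient.mk_smul, smul_eq_mul, mul_one,
      (Submodule.Quotient.mk_eq_zero J).2 hb, _root_.map_zero]

theorem smul_eq_zero_of_span {n : ℕ} {g : Fin n → A} {N : Type u} [AddCommGroup N] [Module A N] {w : N}
    (h : ∀ i, g i • w = 0) : ∀ b ∈ Ideal.span (Set.range g), b • w = 0 := by
  have : Ideal.span (Set.range g) ≤ LinearMap.ker (LinearMap.toSpanSingleton A N w) :=
    Ideal.span_le.2 (by rintro _ ⟨i, rfl⟩; exact h i)
  exact fun b hb => this hb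

/-- Killed elements lift to killed elements above the length of the tuple. -/
theorem exists_lift_killed (hS : IsSyz emb pr) (hI : ∀ d, Module.Injective A (I d)) :
    ∀ {n : ℕ} (g : Fin n → A), Reg g → ∀ d, n ≤ d → ∀ y : Y (d + 1), (∀ i, g i • y = 0) →
      ∃ w : I d, pr d w = y ∧ ∀ i, g i • w = 0 := by
  intro n
  induction n with
  | zero =>
    intro g _ d _ y _
    obtain ⟨w, hw⟩ := hS.surj d y
    exact ⟨w, hw, fun i => i.elim0⟩
  | succ n ih =>
    intro g hg d hd y hy
    obtain ⟨w, hw, hw0⟩ := ih _ hg.1 d (by omega) y fun i => hy _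
    obtain ⟨d, rfl⟩ : ∃ d', d = d' + 1 := ⟨d - 1, by omega⟩
    obtain ⟨y', hy'⟩ := (hS.exact (d + 1) _).1 (by
      rw [map_smul, hw]
      exact hy (Fin.last n) : pr (d + 1) (g (Fin.last n) • w) = 0)
    obtain ⟨u, hu, hu0⟩ := ih _ hg.1 d (by omega) y' fun i => hS.inj (d + 1) (by
      rw [map_smul, hy', smul_comm, hw0, smul_zero, _root_.map_zero])
    have := hI d
    obtain ⟨u', hu', hu'0⟩ := exists_div hg.2 (smul_eq_zero_of_span hu0)
    refine ⟨w - emb (d + 1) (pr d u'), ?_, Fin.lastCases ?_ fun i => ?_⟩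
    · rw [map_sub, hw, (hS.exact (d + 1)).apply_apply_eq_zero, sub_zero]
    · rw [smul_sub, ← map_smul, ← map_smul, hu', hu, hy', sub_self]
    · rw [smul_sub, hw0, ← map_smul, ← map_smul, hu'0 _ (Ideal.subset_span ⟨i, rfl⟩), _root_.map_zero,
        _root_.map_zero, sub_zero]

section Step

variable {n : ℕ}

/-- The projection forgetting the last coordinate. -/
abbrev forget (A : Type u) [CommRing A] (n : ℕ) : (Fin (n + 1) → A) →ₗ[A] (Fin n → A) :=
  LinearMap.funLeft A A Fin.castSucc

/-- The last coordinate. -/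
abbrev lastCoord (A : Type u) [CommRing A] (n : ℕ) : (Fin (n + 1) → A) →ₗ[A] A :=
  LinearMap.proj (Fin.last n)

/-- Adding the last coordinate. -/
def extLast {k : ℕ} {N : Type u} [AddCommGroup N] [Module A N] (c : Alt A n k N) :
    Alt A (n + 1) (k + 1) N :=
  wedge (lastCoord A n) (c.compLinearMap (forget A n))

theorem form_eq (g : Fin (n + 1) → A) :
    form g = (form fun i : Fin n => g i.castSucc).comp (forget A n) +
      g (Fin.last n) • lastCoord A n := by
  refine LinearMap.ext fun v => ?_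
  simp [Fintype.linearCombination_apply, Fin.sum_univ_castSucc, LinearMap.funLeft_apply, mul_comm]

theorem wedge_extLast (g : Fin (n + 1) → A) {k : ℕ} {N : Type u} [AddCommGroup N] [Module A N]
    (c : Alt A n k N) :
    wedge (form g) (extLast c) = -extLast (wedge (form fun i : Fin n => g i.castSucc) c) := by
  unfold extLast
  rw [wedge_anticomm, form_eq, wedge_add_form, wedge_smul_form, map_add, map_smul, wedge_self,
    smul_zero, add_zero, wedge_comp]

theorem extLast_map {k : ℕ} {N N' : Type u} [AddCommGroup N] [Module A N] [AddCommGroup N'] [Module A N']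
    (f : N →ₗ[A] N') (c : Alt A n k N) : f.compAlternatingMap (extLast c) = extLast (f.compAlternatingMap c) :=
  wedge_map _ f _

theorem extLast_std {N : Type u} [AddCommGroup N] [Module A N] (c : Alt A n n N) :
    extLast c (std A (n + 1)) = (-1 : A) ^ n • c (std A n) := by
  unfold extLast
  rw [wedge_apply, Finset.sum_eq_single (Fin.last n)]
  · rw [Fin.val_last, LinearMap.proj_apply, std, Pi.single_eq_same, one_smul, ← Int.cast_smul_eq_zsmul A]
    push_cast
    refine congrArg (_ • ·) (congrArg c (funext fun i => funext fun j => ?_))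
    simp [Fin.removeNth, LinearMap.funLeft_apply, std, Pi.single_apply, Fin.succAbove_last]
  · intro i _ hi
    rw [LinearMap.proj_apply, std, Pi.single_eq_of_ne (Ne.symm hi), zero_smul, smul_zero]
  · exact fun h => absurd (Finset.mem_univ _) h

theorem Reach.extLast {g : Fin (n + 1) → A} {d k K : ℕ} {c : Alt A n k (Y d)} {C : Alt A n K (Y 0)}
    (h : Reach emb pr (fun i : Fin n => g i.castSucc) d k c K C) : ∀ s : A,
      Reach emb pr g d (k + 1) (s • KosZig.extLast c) (K + 1) (((-1 : A) ^ d * s) • KosZig.extLast C) := by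
  induction h with
  | base k c => intro s; rw [pow_zero, one_mul]; exact .base _ _
  | step d k c cl hcl c' h K C _ ih =>
    intro s
    refine .step d (k + 1) _ (s • KosZig.extLast cl) ?_ ((-s) • KosZig.extLast c') ?_ _ _ ?_
    · rw [← hcl, ← extLast_map]; ext v; simp
    · rw [map_smul, wedge_extLast, smul_neg, ← neg_smul, ← h, ← extLast_map]; ext v; simp
    · rw [show (-1 : A) ^ (d + 1) * s = (-1) ^ d * (-s) by ring]
      exact ih (-s)

/-- One step of the iteration. -/
theorem val_succ {g : Fin (n + 1) → A} {w : I n} (hw : ∀ i : Fin n, g i.castSucc • w = 0) {y : Y n}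
    (hy : emb n y = g (Fin.last n) • w) {m : Y 0}
    (hm : Val emb pr (fun i : Fin n => g i.castSucc) y m) : Val emb pr g (pr n w) m := by
  obtain ⟨C, hC, rfl⟩ := hm
  refine ⟨((-1 : A) ^ n * 1) • extLast C, .step n 0 _ (AlternatingMap.constOfIsEmpty A _ (Fin 0) w) ?_
    ((1 : A) • extLast (AlternatingMap.constOfIsEmpty A _ (Fin 0) y)) ?_ _ _ (hC.extLast 1), ?_⟩
  · ext v; rfl
  · rw [one_smul, extLast_map, form_eq, wedge_add_form, wedge_smul_form]
    have h0 : wedge ((form fun i : Fin n => g i.castSucc).comp (forget A n))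
        (AlternatingMap.constOfIsEmpty A (Fin (n + 1) → A) (Fin 0) w) = 0 := by
      have e := wedge_comp (form fun i : Fin n => g i.castSucc) (forget A n)
        (AlternatingMap.constOfIsEmpty A (Fin n → A) (Fin 0) w)
      rw [wedge_const_eq_zero hw] at e
      exact e.symm.trans (AlternatingMap.ext fun v => rfl)
    rw [h0, zero_add (g (Fin.last n) • _), ← map_smul]
    unfold extLast
    congr 1
    ext v
    exact hy
  · rw [AlternatingMap.smul_apply, mul_one, extLast_std, smul_smul, ← mul_pow, neg_one_mul, neg_neg, one_pow, one_smul]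

end Step

/-- `z` is the image of a killed element. -/
def Null (emb : ∀ d, Y d →ₗ[A] I d) (pr : ∀ d, I d →ₗ[A] Y (d + 1)) {n : ℕ} (g : Fin n → A) (z : Y n) :
    Prop :=
  match n, g, z with
  | 0, _, z => z = 0
  | j + 1, g, z => ∃ w : I j, pr j w = z ∧ ∀ i, g i • w = 0

theorem surj_and_inj (hS : IsSyz emb pr) (hI : ∀ d, Module.Injective A (I d)) :
    ∀ {n : ℕ} (g : Fin n → A), Reg g →
      (∀ m : Y 0, ∃ z : Y n, (∀ i, g i • z = 0) ∧ Val emb pr g z m) ∧
      ∀ (z : Y n) (m : Y 0), (∀ i, g i • z = 0) → Val emb pr g z m → m ∈ gTop g (Y 0) →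
        Null emb pr g z := by
  intro n
  induction n with
  | zero =>
    intro g _
    refine ⟨fun m => ⟨m, fun i => i.elim0, _, .base 0 _, rfl⟩, fun z m _ hm hmem => ?_⟩
    obtain ⟨C, hC, rfl⟩ := hm
    cases hC
    rw [gTop, Set.range_eq_empty, Ideal.span_empty, Submodule.bot_smul, Submodule.mem_bot] at hmem
    exact hmem
  | succ n ih =>
    intro g hg
    obtain ⟨hsurj, hinj⟩ := ih _ hg.1
    have := hI n
    have key : ∀ m : Y 0, ∃ y : Y n, (∀ i : Fin n, g i.castSucc • y = 0) ∧
        Val emb pr (fun i : Fin n => g i.castSucc) y m := hsurj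
    refine ⟨fun m => ?_, fun z m hz hm hmem => ?_⟩
    · obtain ⟨y, hy, hv⟩ := key m
      obtain ⟨w, hw, hw0⟩ := exists_div hg.2
        (smul_eq_zero_of_span (w := emb n y) fun i => by rw [← map_smul, hy, _root_.map_zero])
      refine ⟨pr n w, Fin.lastCases ?_ fun i => ?_, val_succ (fun i => hw0 _ (Ideal.subset_span ⟨i, rfl⟩))
        hw.symm hv⟩
      · rw [← map_smul, hw, (hS.exact n).apply_apply_eq_zero]
      · rw [← map_smul, hw0 _ (Ideal.subset_span ⟨i, rfl⟩), _root_.map_zero]
    · obtain ⟨w, rfl, hw⟩ := exists_lift_killed hS hI _ hg.1 n le_rfl z fun i => hz _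
      obtain ⟨y, hy⟩ := (hS.exact n _).1 (by
        rw [map_smul]
        exact hz (Fin.last n) : pr n (g (Fin.last n) • w) = 0)
      have hy0 : ∀ i : Fin n, g i.castSucc • y = 0 := fun i => hS.inj n (by
        rw [map_smul, hy, smul_comm, hw, smul_zero, _root_.map_zero])
      obtain ⟨my, hmy⟩ := exists_val hS hy0
      have hmy' := add_mem (Submodule.neg_mem _ ((val_succ hw hy hmy).sub_mem hS hm)) hmem
      obtain ⟨a, m', hm', hma⟩ : ∃ (a : Y 0) (m' : Y 0),
          m' ∈ gTop (fun i : Fin n => g i.castSucc) (Y 0) ∧ my = m' + g (Fin.last n) • a := by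
        have h2 : my ∈ gTop g (Y 0) := by
          have := Submodule.add_mem _ ((val_succ hw hy hmy).sub_mem hS hm) hmem
          rwa [sub_add_cancel] at this
        rw [gTop] at h2
        refine Submodule.smul_induction_on h2 (fun r hr x _ => ?_) fun x y hx hy => ?_
        · obtain ⟨c, rfl⟩ := Ideal.mem_span_range_iff_exists_fun.1 hr
          refine ⟨c (Fin.last n) • x, ∑ i : Fin n, (c i.castSucc * g i.castSucc) • x, ?_, ?_⟩
          · exact Submodule.sum_mem _ fun i _ => Submodule.smul_mem_smul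
              (Ideal.mul_mem_left _ _ (Ideal.subset_span ⟨i, rfl⟩)) Submodule.mem_top
          · rw [Finset.sum_smul, Fin.sum_univ_castSucc, smul_smul (g (Fin.last n)), mul_comm (g (Fin.last n))]
        · obtain ⟨a, m', h, rfl⟩ := hx
          obtain ⟨a', m'', h', rfl⟩ := hy
          exact ⟨a + a', m' + m'', add_mem h h', by rw [smul_add]; abel⟩
      obtain ⟨y₁, hy₁, hv₁⟩ := key a
      have hv2 := hmy.add ((hv₁.smul (g (Fin.last n))).smul (-1))
      have hnull := hinj _ _ (fun i => by
        rw [smul_add, hy0, zero_add, smul_comm, smul_comm (g i.castSucc), hy₁, smul_zero, smul_zero]) hv2 (by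
        rw [hma, neg_one_smul, add_neg_cancel_right]
        exact hm')
      obtain ⟨y₂, hy₂, hy₂0⟩ : ∃ y₂ : Y n, g (Fin.last n) • y₂ = y ∧
          ∀ i : Fin n, g i.castSucc • y₂ = 0 := by
        cases n with
        | zero =>
          have h : y + (-1 : A) • g (Fin.last 0) • y₁ = 0 := hnull
          rw [neg_one_smul, ← sub_eq_add_neg, sub_eq_zero] at h
          exact ⟨y₁, h.symm, fun i => i.elim0⟩
        | succ j =>
          obtain ⟨u, hu, hu0⟩ := hnull
          have := hI j
          obtain ⟨u', hu', hu'0⟩ := exists_div hg.2 (smul_eq_zero_of_span hu0)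
          refine ⟨y₁ + pr j u', ?_, fun i => ?_⟩
          · rw [smul_add, ← map_smul, hu', hu, neg_one_smul]; abel
          · rw [smul_add, hy₁, ← map_smul, hu'0 _ (Ideal.subset_span ⟨i, rfl⟩), _root_.map_zero, add_zero]
      refine ⟨w - emb n y₂, ?_, Fin.lastCases ?_ fun i => ?_⟩
      · rw [map_sub, (hS.exact n).apply_apply_eq_zero, sub_zero]
      · rw [smul_sub, ← map_smul, hy₂, hy, sub_self]
      · rw [smul_sub, hw, ← map_smul, hy₂0, _root_.map_zero, sub_zero]

end Groth.Agent.KosZig
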