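import Groth.Agent.KosZig.Chart
import Groth.Agent.ExtZShLib.QCohRes
import Groth.Agent.Props.QStalk
import Groth.Agent.InjMod.StalkInj
import Groth.Agent.InjMod.ExtSections

/-!
# Zigzags on stalks and on sections of a quasi-coherent injective resolution
-/

universe u

open CategoryTheory CategoryTheory.Limits AlgebraicGeometry TopologicalSpace Opposite
open Groth.Agent.PullStalk.Sky Groth.Agent.PullStalk.Exact

noncomputable section

namespace Groth.Agent.KosZig

set_option maxHeartbeats 800000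
set_option synthInstance.maxHeartbeats 400000

variable {P X : Scheme.{u}} [IsLocallyNoetherian P] [EnoughInjectives P.Modules]
  (F : {M : P.Modules // Coh.IsQCoh M})

/-- The cosyzygies of `F`. -/
abbrev Ys (d : ℕ) : P.Modules := (ExtZShLib.syz F d).1

/-- The injective terms. -/
abbrev Is (d : ℕ) : P.Modules := (ExtZShLib.hull (ExtZShLib.syz F d)).1

/-- The inclusions. -/
abbrev embM (d : ℕ) : Ys F d ⟶ Is F d := ExtZShLib.emb (ExtZShLib.syz F d)

/-- The projections. -/
abbrev prM (d : ℕ) : Is F d ⟶ Ys F (d + 1) := ExtZShLib.proj F d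

/-- Stalks of the cosyzygies. -/
abbrev sY (p : P) (d : ℕ) : Type u := (Ys F d).presheaf.stalk p

/-- Stalks of the injectives. -/
abbrev sI (p : P) (d : ℕ) : Type u := (Is F d).presheaf.stalk p

/-- The inclusions on stalks. -/
abbrev sEmb (p : P) (d : ℕ) : sY F p d →ₗ[P.presheaf.stalk p] sI F p d := stalkLin (embM F d) p

/-- The projections on stalks. -/
abbrev sPr (p : P) (d : ℕ) : sI F p d →ₗ[P.presheaf.stalk p] sY F p (d + 1) := stalkLin (prM F d) p

theorem isSyz_stalk (p : P) : IsSyz (sEmb F p) (sPr F p) :=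
  ⟨fun d => (stalk_exact (ExtZShLib.syzSeq_shortExact F d) p).1,
    fun d => (stalk_exact (ExtZShLib.syzSeq_shortExact F d) p).2.2,
    fun d => (stalk_exact (ExtZShLib.syzSeq_shortExact F d) p).2.1⟩

theorem injective_sI (p : P) (d : ℕ) : Module.Injective (P.presheaf.stalk p) (sI F p d) :=
  InjMod.stalk_injective (Is F d) inferInstance p

/-- The value on a stalk of a section killed by a chart is the germ of a section over the chart. -/
theorem exists_section_value {n : ℕ} (W : P.affineOpens) (f : Fin n → Γ(P, W.1)) (t : Γ(Ys F n, W.1))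
    (ht : ∀ i, f i • t = 0) :
    ∃ m : Γ(Ys F 0, W.1), ∀ (p : P) (hp : p ∈ W.1) (m' : sY F p 0),
      Val (sEmb F p) (sPr F p) (fun i => P.presheaf.germ W.1 p hp (f i)) (germM (Ys F n) W.1 p hp t) m' →
        germM (Ys F 0) W.1 p hp m - m' ∈ gTop (fun i => P.presheaf.germ W.1 p hp (f i)) (sY F p 0) := by
  let Y := fun d => Γ(Ys F d, W.1)
  let I := fun d => Γ(Is F d, W.1)
  let emb : ∀ d, Y d →ₗ[Γ(P, W.1)] I d := fun d => InjMod.secLin (embM F d) W.1
  let pr : ∀ d, I d →ₗ[Γ(P, W.1)] Y (d + 1) := fun d => InjMod.secLin (prM F d) W.1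
  have hS : IsSyz emb pr := by
    refine ⟨fun d => (sections_exact (ExtZShLib.syzSeq_shortExact F d) W.1).2, fun d => ?_,
      fun d => (sections_exact (ExtZShLib.syzSeq_shortExact F d) W.1).1⟩
    have : (Is F d).IsQuasicoherent := (ExtZShLib.hull (ExtZShLib.syz F d)).2
    have : (Ys F (d + 1)).IsQuasicoherent := (ExtZShLib.syz F (d + 1)).2
    exact QCoh.app_surjective_of_epi (prM F d) W.2
  obtain ⟨m, hm⟩ := exists_val hS ht
  refine ⟨m, fun p hp m' hm' => ?_⟩
  letI := P.presheaf.algebra_section_stalk ⟨p, hp⟩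
  letI iY : ∀ d, Module Γ(P, W.1) (sY F p d) := fun d => Props.QStalk.moduleSections (Ys F d) hp
  letI iI : ∀ d, Module Γ(P, W.1) (sI F p d) := fun d => Props.QStalk.moduleSections (Is F d) hp
  haveI tY : ∀ d, IsScalarTower Γ(P, W.1) (P.presheaf.stalk p) (sY F p d) := fun d =>
    IsScalarTower.of_algebraMap_smul fun _ _ => rfl
  haveI tI : ∀ d, IsScalarTower Γ(P, W.1) (P.presheaf.stalk p) (sI F p d) := fun d =>
    IsScalarTower.of_algebraMap_smul fun _ _ => rfl
  let e' : ∀ d, sY F p d →ₗ[Γ(P, W.1)] sI F p d := fun d => (sEmb F p d).restrictScalars _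
  let p' : ∀ d, sI F p d →ₗ[Γ(P, W.1)] sY F p (d + 1) := fun d => (sPr F p d).restrictScalars _
  have h1 : Val e' p' f (germM (Ys F n) W.1 p hp t) (germM (Ys F 0) W.1 p hp m) :=
    hm.map (fun d => Props.QStalk.germLin (Ys F d) hp) (fun d => Props.QStalk.germLin (Is F d) hp)
      (fun d y => (stalkLin_germ (embM F d) W.1 p hp y).symm)
      (fun d w => (stalkLin_germ (prM F d) W.1 p hp w).symm)
  have h2 : Val e' p' f (germM (Ys F n) W.1 p hp t) m' :=
    Val.restrict (A := Γ(P, W.1)) (A' := P.presheaf.stalk p) (g := f) (emb := e') (pr := p') (emb' := sEmb F p) (pr' := sPr F p) (fun d y => rfl)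
      (fun d w => rfl) hm'
  have h3 : IsSyz e' p' := ⟨(isSyz_stalk F p).inj, (isSyz_stalk F p).surj, (isSyz_stalk F p).exact⟩
  exact mem_gTop_map (A' := P.presheaf.stalk p) (h1.sub_mem h3 h2)

end Groth.Agent.KosZig
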